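import Cfsg.Agent.Lib.Perm.ThreePrimeOrder.PrincipalValue
import Cfsg.Agent.Lib.Perm.SylowNormalizer
import Cfsg.Agent.Lib.Perm.SylowFixed
import Cfsg.Agent.Lib.Blocks.PrimeSylow.Principal

/-!
# Centralizers of elements of order five in simple groups of order `2 ^ a 3 ^ b 5`

* `centralizer_five_odd`: no involution commutes with an element of order five when the odd
  degrees prime to five are among `3`, `9`, `27`.
-/

set_option autoImplicit false

namespace CfsgLib.Perm.ThreePrimeOrder

open Cfsg CfsgLib.Char CfsgLib.Blocks Subgroup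
open scoped Classical ComplexConjugate

variable {G : Type*} [Group G] [Fintype G] [IsSimpleGroup G]

omit [Fintype G] in
/-- A non-abelian simple group is perfect. -/
theorem perfect_of_nc [Finite G] (hnc : ¬ IsMulCommutative G) : _root_.commutator G = ⊤ := by
  rcases IsSimpleGroup.eq_bot_or_eq_top_of_normal (_root_.commutator G) inferInstance with h | h
  · exact absurd ⟨⟨fun a b => commutatorElement_eq_one_iff_mul_comm.mp (Subgroup.mem_bot.mp (h ▸
      Subgroup.commutator_mem_commutator (Subgroup.mem_top a) (Subgroup.mem_top b)))⟩⟩ hnc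
  · exact h

/-- Degree `27` does not occur in the principal `5`-block when `26` does not divide the order. -/
theorem degree_ne_twenty_seven (hnc : ¬ IsMulCommutative G) (hsq : ¬ 5 * 5 ∣ Nat.card G)
    (h26 : ¬ 26 ∣ Nat.card G) {M : Ideal AlgInt} [M.IsPrime] (hM : IsPModular 5 M) {y : G}
    (hy : orderOf y = 5) {χ : IrrCharacter G} (hB : χ ∈ principalBlock M G) :
    charDegree (χ : G → ℂ) ≠ 27 := by
  intro hd
  haveI : Fact (Nat.Prime 5) := ⟨by norm_num⟩
  have hcard : Nat.card (zpowers y) = 5 := by rw [Nat.card_zpowers, hy]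
  have hidx : ¬ 5 ∣ (zpowers y).index := fun h => hsq (by
    rw [← card_mul_index (zpowers y), hcard]; exact mul_dvd_mul_left 5 h)
  obtain ⟨V, hV⟩ := CfsgLib.Blocks.PrimeSylow.exists_setup hcard hidx
  haveI := Fintype.ofFinite V
  haveI := Fintype.ofFinite (zpowers y)
  haveI := Fintype.ofFinite (IrrCharacter G)
  obtain ⟨-, X, Y, hun, -, hXc, -, εX, ε, hX, hε, hY, -, hrel⟩ := hV.exists_principal hM rfl
  set e := (centralizer (zpowers y : Set G)).relIndex (normalizer (zpowers y : Set G)) with he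
  have he4 : e ∣ 4 := CfsgLib.Perm.relIndex_centralizer_dvd_sub_one (zpowers y) hcard
  have he5 : e ≤ 4 := Nat.le_of_dvd (by norm_num) he4
  rw [hun] at hB
  rcases hB with h | h
  · obtain ⟨h1, h2, -⟩ := hX χ h
    rw [hd] at h2
    obtain ⟨k, hk⟩ := Int.modEq_iff_dvd.1 h2
    rcases h1 with e1 | e1 <;> rw [e1] at hk <;> omega
  · have h2 := hY χ h
    rw [hd] at h2
    obtain ⟨k, hk⟩ := Int.modEq_iff_dvd.1 h2
    have he2 : e = 2 ∧ ε = 1 := by
      interval_cases e <;> rcases hε with e1 | e1 <;> rw [e1] at hk <;> omega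
    have hTX : trivChar G ∈ X := by
      have h0 := trivChar_mem_principalBlock (M := M) (G := G)
      rw [hun] at h0
      refine h0.resolve_right fun hT => ?_
      have h3 := hY _ hT
      rw [he2.1, he2.2, show charDegree ((trivChar G : IrrCharacter G) : G → ℂ) = 1 by
        rw [charDegree, trivChar_apply]; simp] at h3
      obtain ⟨k', hk'⟩ := Int.modEq_iff_dvd.1 h3
      omega
    have hT1 : εX (trivChar G) = 1 := by
      obtain ⟨-, -, h3⟩ := hX _ hTX
      have h4 := h3 y (mem_zpowers y) (fun e0 => by rw [e0, orderOf_one] at hy; omega) 1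
        (one_mem _) (by rw [orderOf_one]; omega)
      rw [trivChar_apply] at h4
      exact_mod_cast h4.symm
    rw [he2.1] at hXc
    obtain ⟨⟨X1, hX1⟩, hne, huniq⟩ := (Nat.card_eq_two_iff' (⟨_, hTX⟩ : X)).1 hXc
    have hXeq : X = {trivChar G, X1} := by
      ext ψ
      constructor
      · intro hψ
        by_cases h0 : ψ = trivChar G
        · exact Or.inl h0
        · exact Or.inr (congrArg Subtype.val (huniq ⟨ψ, hψ⟩ fun e0 => h0 (congrArg Subtype.val e0)))
      · rintro (rfl | rfl)
        exacts [hTX, hX1]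
    have hne' : trivChar G ≠ X1 := fun e0 => hne (Subtype.ext e0.symm)
    have h3 := hrel χ h 1 (by rw [orderOf_one]; omega)
    rw [hXeq, finsum_mem_pair hne', hT1, he2.2, apply_one_eq_charDegree, apply_one_eq_charDegree,
      apply_one_eq_charDegree, hd, show charDegree ((trivChar G : IrrCharacter G) : G → ℂ) = 1 by
        rw [charDegree, trivChar_apply]; simp] at h3
    have h4 : (27 : ℤ) = 1 + εX X1 * (charDegree (X1 : G → ℂ) : ℤ) := by
      have : (((27 : ℤ)) : ℂ) = ((1 + εX X1 * (charDegree (X1 : G → ℂ) : ℤ) : ℤ) : ℂ) := by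
        push_cast at h3 ⊢
        linear_combination h3
      exact_mod_cast this
    refine h26 ?_
    have h5 : charDegree (X1 : G → ℂ) = 26 := by
      rcases (hX X1 hX1).1 with e1 | e1 <;> rw [e1] at h4 <;> omega
    exact h5 ▸ charDegree_dvd_card X1

/-- No involution commutes with an element of order five. -/
theorem centralizer_five_odd (hnc : ¬ IsMulCommutative G) (hsq : ¬ 5 * 5 ∣ Nat.card G)
    (h26 : ¬ 26 ∣ Nat.card G)
    (hdeg : ∀ d, d ∣ Nat.card G → ¬ 2 ∣ d → ¬ 5 ∣ d → d ≠ 1 → d = 3 ∨ d = 9 ∨ d = 27) {y : G}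
    (hy : orderOf y = 5) : ¬ 2 ∣ Nat.card (centralizer ({y} : Set G)) := by
  intro h2
  haveI : Fact (Nat.Prime 2) := ⟨Nat.prime_two⟩
  have h5 : Nat.Prime 5 := by norm_num
  obtain ⟨u0, hu0⟩ := exists_prime_orderOf_dvd_card' 2 h2
  set u : G := (u0 : G) with hudef
  have hu : orderOf u = 2 := by rw [hudef, Subgroup.orderOf_coe, hu0]
  have hu1 : u ≠ 1 := fun e => by rw [e, orderOf_one] at hu; omega
  have huC : u ∈ centralizer ({y} : Set G) := u0.2
  have hu2 : u * u = 1 := by rw [← pow_two, ← hu, pow_orderOf_eq_one]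
  obtain ⟨M, hM⟩ := CfsgLib.ZStar.exists_isPModular h5
  haveI := hM.2.1.isPrime
  have hperf := perfect_of_nc hnc
  obtain ⟨χ, hB, h1, hq, hp, -⟩ := exists_nonvanishing hperf h5 hsq Nat.prime_two hM hy
  have hval : ∀ i, i < 5 → i ≠ 0 → (χ : G → ℂ) (y ^ i * u) = (χ : G → ℂ) (y ^ i) := fun i hi hi0 =>
    apply_pow_mul_eq h5 hsq hM hB hy huC (by rw [hu]; omega) hi hi0
  rcases hdeg _ (charDegree_dvd_card χ) hq hp h1 with hd | hd | hd
  · exact hu1 (eq_one_of_apply_eq h1
      (apply_eq_of_deg_lt χ h5 (by rw [← hy, pow_orderOf_eq_one]) (by rw [hd]; norm_num) hval))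
  · obtain ⟨k, hk⟩ := CfsgLib.Perm.SelfCentDegree.exists_int_of_sq_eq_one χ hu2
    have h10 := two_p_dvd_degree_sub h5 (by norm_num) hy hu
      (mem_centralizer_singleton_iff.1 huC).symm hk hval
    have h4 := four_dvd_degree_sub hperf χ hu2 hk
    have hle : k.natAbs ≤ 9 := by
      have h := IsChar.norm_le (IsIrr.isCharacter χ.2) u
      rw [hk, apply_one_eq_charDegree, hd, Complex.norm_intCast] at h
      simp only [Nat.cast_ofNat, Complex.re_ofNat] at h
      have h' : |k| ≤ 9 := by exact_mod_cast h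
      rw [Int.abs_eq_natAbs] at h'
      omega
    rw [hd] at h10 h4
    refine hu1 (eq_one_of_apply_eq h1 ?_)
    rw [hk, apply_one_eq_charDegree, hd, show k = 9 by omega]
    norm_num
  · exact degree_ne_twenty_seven hnc hsq h26 hM hy hB hd

end CfsgLib.Perm.ThreePrimeOrder
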