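import Cfsg.Agent.Lib.Perm.ThreePrimeOrder.Main
import Cfsg.Agent.Lib.Perm.ThreePrimeOrder.Five

/-!
# No simple group of order `4320`: the two possible numbers of Sylow `5`-subgroups

* `sixteen_false`: `16` Sylow `5`-subgroups with centralizers of order `135`.
* `frame_false`: a self-centralizing Sylow `5`-subgroup with normalizer of order `20`.
-/

set_option autoImplicit false

namespace CfsgLib.Perm.ThreePrimeOrder

open Cfsg CfsgLib.Char CfsgLib.Blocks Subgroup CfsgLib.Perm.FewSylow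
open scoped Classical ComplexConjugate

variable {G : Type*} [Group G] [Fintype G] [IsSimpleGroup G]

theorem sixteen_false [Fact (Nat.Prime 5)] (P : Sylow 5 G) (hP : Nat.card (P : Subgroup G) = 5)
    (hn : Nat.card (Sylow 5 G) = 16)
    (hC : Nat.card (centralizer ((P : Subgroup G) : Set G)) = 135) : False := by
  set C := centralizer ((P : Subgroup G) : Set G) with hCdef
  have hPfix : ∀ v ∈ C, v • P = P := fun v hv =>
    Sylow.smul_eq_iff_mem_normalizer.2 (centralizer_le_normalizer _ hv)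
  have hfree : ∀ v ∈ C, ∀ R : Sylow 5 G, R ≠ P → v • R = R → v = 1 := by
    intro v hv R hR hfix
    by_contra hv1
    obtain ⟨l, hl, hld⟩ := Nat.exists_prime_and_dvd (mt orderOf_eq_one_iff.1 hv1)
    have hw : orderOf (v ^ (orderOf v / l)) = l := orderOf_pow_orderOf_div (orderOf_pos v).ne' hld
    have hwC : v ^ (orderOf v / l) ∈ C := pow_mem hv _
    have hwR : v ^ (orderOf v / l) • R = R :=
      MulAction.mem_stabilizer_iff.1 (pow_mem (MulAction.mem_stabilizer_iff.2 hfix) _)
    generalize v ^ (orderOf v / l) = w at hw hwC hwR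
    have hw1 : w ≠ 1 := fun e => by rw [e, orderOf_one] at hw; exact hl.ne_one hw.symm
    have hl135 : l ∣ 3 ^ 3 * 5 := by
      rw [show 3 ^ 3 * 5 = 135 by norm_num, ← hC, ← hw]
      exact Subgroup.orderOf_dvd_natCard _ hwC
    rcases hl.dvd_mul.1 hl135 with h | h
    · have h3 : l = 3 := (Nat.prime_dvd_prime_iff_eq hl Nat.prime_three).1 (hl.dvd_of_dvd_pow h)
      subst h3
      haveI : Fact (Nat.Prime 3) := ⟨hl⟩
      have hF5 := CfsgLib.Perm.card_fixedSylows_modEq P hP hwC
      have hgrp : IsPGroup 3 (zpowers w) :=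
        IsPGroup.of_card (n := 1) (by rw [Nat.card_zpowers, hw, pow_one])
      have h3 := hgrp.card_modEq_card_fixedPoints (Sylow 5 G)
      have he : Nat.card (MulAction.fixedPoints (zpowers w) (Sylow 5 G)) =
          Nat.card (CfsgLib.Perm.fixedSylows 5 w) := by
        refine Nat.card_congr (Equiv.subtypeEquivRight fun S => ⟨fun h => h ⟨w, mem_zpowers w⟩,
          fun h u => ?_⟩)
        have := zpowers_le.2 (MulAction.mem_stabilizer_iff.2 h : w ∈ MulAction.stabilizer G S) u.2
        exact MulAction.mem_stabilizer_iff.1 this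
      rw [he, hn] at h3
      have hle : Nat.card (CfsgLib.Perm.fixedSylows 5 w) ≤ 16 :=
        hn ▸ Nat.card_le_card_of_injective _ Subtype.val_injective
      have h2 : 1 < Nat.card (CfsgLib.Perm.fixedSylows 5 w) := by
        haveI : Nontrivial (CfsgLib.Perm.fixedSylows 5 w) :=
          ⟨⟨P, hPfix w hwC⟩, ⟨R, hwR⟩, fun e => hR (congrArg Subtype.val e).symm⟩
        exact Finite.one_lt_card
      have hF : Nat.card (CfsgLib.Perm.fixedSylows 5 w) = 16 := by
        rw [Nat.ModEq] at h3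
        omega
      have hall : ∀ S : Sylow 5 G, w • S = S := fun S => by
        obtain ⟨T, rfl⟩ := ((Nat.bijective_iff_injective_and_card
          (Subtype.val : CfsgLib.Perm.fixedSylows 5 w → Sylow 5 G)).2
            ⟨Subtype.val_injective, by rw [hF, hn]⟩).2 S
        exact T.2
      rcases (MonoidHom.normal_ker (MulAction.toPermHom G (Sylow 5 G))).eq_bot_or_eq_top with hb | ht
      · have : w ∈ (MulAction.toPermHom G (Sylow 5 G)).ker := by
          rw [MonoidHom.mem_ker]
          exact Equiv.ext hall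
        rw [hb, mem_bot] at this
        exact hw1 this
      · obtain ⟨g, hg⟩ := MulAction.exists_smul_eq G P R
        have hgk : g ∈ (MulAction.toPermHom G (Sylow 5 G)).ker := ht ▸ mem_top g
        refine hR (hg.symm.trans ?_)
        exact congrArg (fun f : Equiv.Perm (Sylow 5 G) => f P) (MonoidHom.mem_ker.1 hgk)
    · have h5 : l = 5 := (Nat.prime_dvd_prime_iff_eq hl Fact.out).1 h
      subst h5
      have hgrp : IsPGroup 5 (zpowers w) :=
        IsPGroup.of_card (n := 1) (by rw [Nat.card_zpowers, hw, pow_one])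
      have hwP : w ∈ (P : Subgroup G) := by
        have h : w ∈ zpowers w ⊓ normalizer ((P : Subgroup G) : Set G) :=
          ⟨mem_zpowers w, centralizer_le_normalizer _ hwC⟩
        replace h : w ∈ zpowers w ⊓ (P : Subgroup G) := by rw [← hgrp.inf_normalizer_sylow P]; exact h
        exact h.2
      exact hR (CfsgLib.Perm.eq_of_smul_eq P hP hwP hw1 hwR)
  haveI : Nontrivial (Sylow 5 G) := Finite.one_lt_card_iff_nontrivial.1 (by rw [hn]; norm_num)
  obtain ⟨R, hR⟩ := exists_ne P
  let f : C → {Q : Sylow 5 G // Q ≠ P} := fun v => ⟨(v : G) • R, fun e => hR (by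
    rw [← hPfix v v.2] at e
    exact smul_left_cancel _ e)⟩
  have hf : Function.Injective f := by
    intro v v' e
    have e' : (v : G) • R = (v' : G) • R := congrArg Subtype.val e
    have := hfree ((v' : G)⁻¹ * v) (mul_mem (inv_mem v'.2) v.2) R hR
      (by rw [mul_smul, e', inv_smul_smul])
    exact (Subtype.ext (inv_mul_eq_one.1 this)).symm
  have h := Nat.card_le_card_of_injective f hf
  have h15 : Nat.card {Q : Sylow 5 G // Q ≠ P} = 15 := by
    haveI := Fintype.ofFinite (Sylow 5 G)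
    haveI := Fintype.ofFinite {Q : Sylow 5 G // Q ≠ P}
    rw [Nat.card_eq_fintype_card, Fintype.card_subtype_compl, Fintype.card_subtype_eq,
      ← Nat.card_eq_fintype_card, hn]
  rw [hC, h15] at h
  omega

/-- The options for a signed degree and the signed value at an involution. -/
def Opt (s w q : ℤ) : Prop :=
  (s = 6 ∨ s = 16 ∨ s = 36 ∨ s = -4 ∨ s = -9 ∨ s = -24 ∨ s = -54) ∧
    5 * |w| ≤ |s + 4| ∧ 4 ∣ s - w ∧ s * q = 864 * w ^ 2

theorem square_false {qA qB qC qD c m : ℤ} (hc : c ^ 2 = 864 + qA + qB + qC + qD) (hc0 : 0 ≤ c)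
    (hm : m ≤ c)
    (h : qA + qB + qC + qD = -96 ∨ qA + qB + qC + qD = 1056 ∨ qA + qB + qC + qD = 1632 ∨
      qA + qB + qC + qD = 192 ∨ (qA + qB + qC + qD = -288 ∧ 25 ≤ m)) : False := by
  rcases h with h | h | h | h | ⟨h, hm'⟩
  · rcases le_or_gt c 27 with h1 | h1 <;> nlinarith
  · rcases le_or_gt c 43 with h1 | h1 <;> nlinarith
  · rcases le_or_gt c 49 with h1 | h1 <;> nlinarith
  · rcases le_or_gt c 32 with h1 | h1 <;> nlinarith
  · nlinarith

theorem arith {sA sB sC sD wA wB wC wD qA qB qC qD c : ℤ} (hA : Opt sA wA qA) (hB : Opt sB wB qB)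
    (hC : Opt sC wC qC) (hD : Opt sD wD qD) (hA' : sA = -9) (hB' : sB = 16 ∨ sB = -4)
    (hs : sA + sB + sC + sD = -1) (hw : wA + wB + wC + wD = -1)
    (hc : c ^ 2 = 864 + qA + qB + qC + qD) (hc0 : 0 ≤ c)
    (hle : 1 + wA ^ 2 + wB ^ 2 + wC ^ 2 + wD ^ 2 ≤ c) : False := by
  obtain ⟨-, hwA, h4A, hqA⟩ := hA
  obtain ⟨-, hwB, h4B, hqB⟩ := hB
  obtain ⟨hC', hwC, h4C, hqC⟩ := hC
  obtain ⟨hD', hwD, h4D, hqD⟩ := hD
  subst hA'
  norm_num at hwA
  obtain ⟨hA1, hA2⟩ := abs_le.1 (show |wA| ≤ 1 by omega)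
  have : wA = -1 := by omega
  subst this
  rcases hB' with rfl | rfl <;> rcases hC' with rfl | rfl | rfl | rfl | rfl | rfl | rfl <;>
    rcases hD' with rfl | rfl | rfl | rfl | rfl | rfl | rfl <;>
    first
    | (exfalso; omega)
    | (norm_num at hwB hwC hwD
       have hbB : wB ≤ |wB| ∧ -wB ≤ |wB| := ⟨le_abs_self _, neg_le_abs _⟩
       have hbC : wC ≤ |wC| ∧ -wC ≤ |wC| := ⟨le_abs_self _, neg_le_abs _⟩
       have hbD : wD ≤ |wD| ∧ -wD ≤ |wD| := ⟨le_abs_self _, neg_le_abs _⟩
       have hB1 : -10 ≤ wB := by omega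
       have hB2 : wB ≤ 10 := by omega
       have hC1 : -10 ≤ wC := by omega
       have hC2 : wC ≤ 10 := by omega
       have hwD' : wD = -wB - wC := by omega
       subst hwD'
       interval_cases wB <;> (try omega) <;> interval_cases wC <;> (try omega) <;>
         exact square_false hc hc0 hle (by norm_num at hqA hqB hqC hqD ⊢; omega))

theorem frame_false [Fact (Nat.Prime 5)] (hG : Nat.card G = 4320) {P : Sylow 5 G} {a : G} {n : ℕ}
    (F : Frame P a 4 1 n) : False := by
  have := Fintype.ofFinite (IrrCharacter G)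
  have h5 : Nat.Prime 5 := by norm_num
  have hnc : ¬ IsMulCommutative G :=
    CfsgLib.Perm.not_comm_of_not_prime (by rw [hG]; norm_num)
  have hsq : ¬ 5 * 5 ∣ Nat.card G := by rw [hG]; norm_num
  obtain ⟨y0, hy0⟩ := exists_prime_orderOf_dvd_card' (G := (P : Subgroup G)) 5 (by rw [F.card])
  set y : G := (y0 : G) with hydef
  have hy : orderOf y = 5 := by rw [hydef, Subgroup.orderOf_coe, hy0]
  have hy1 : y ≠ 1 := fun e => by rw [e, orderOf_one] at hy; omega
  have hyP : y ∈ (P : Subgroup G) := y0.2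
  have hystar : y ∈ star (P : Subgroup G) := mem_star.2 ⟨hy1, hyP⟩
  have hPy : (P : Subgroup G) = zpowers y :=
    (eq_of_le_of_card_ge (zpowers_le.2 hyP) (by rw [F.card, Nat.card_zpowers, hy])).symm
  -- the involution inverting `y`
  set u := a ^ 2 with hudef
  have hu : orderOf u = 2 := by
    rw [hudef, orderOf_pow' _ two_ne_zero, F.ord]; rfl
  have hu2 : u * u = 1 := by rw [← pow_two, ← hu, pow_orderOf_eq_one]
  have hu1 : u ≠ 1 := fun e => by rw [e, orderOf_one] at hu; omega
  have huA : u ∈ zpowers a := pow_mem (mem_zpowers a) _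
  have hureg : ¬ 5 ∣ orderOf u := by rw [hu]; norm_num
  have hinv : u * y * u⁻¹ = y⁻¹ := by
    have huy : u * y * u⁻¹ ∈ (P : Subgroup G) :=
      (mem_normalizer_iff.1 (F.zpowers_le_normalizer huA) _).1 hyP
    have hcomm : u * y * u⁻¹ * y = y * (u * y * u⁻¹) := by
      have h : u * y * u⁻¹ ∈ centralizer ({y} : Set G) := by rw [F.cent _ hyP hy1]; exact huy
      exact mem_centralizer_singleton_iff.1 h
    by_contra hne
    have hw1 : y * (u * y * u⁻¹) ≠ 1 := fun e0 => hne (eq_inv_of_mul_eq_one_right e0)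
    have huC : u ∈ (P : Subgroup G) := by
      refine (F.cent _ (mul_mem hyP huy) hw1).le (mem_centralizer_singleton_iff.2 ?_)
      calc u * (y * (u * y * u⁻¹)) = u * y * u⁻¹ * (u * u) * y * u⁻¹ := by group
        _ = u * y * u⁻¹ * y * u⁻¹ := by rw [hu2, mul_one]
        _ = y * (u * y * u⁻¹) * u⁻¹ := by rw [hcomm]
        _ = y * (u * y * u⁻¹) * u := by rw [inv_eq_of_mul_eq_one_right hu2]
    exact hu1 (F.eq_one_of_mem huC huA)
  obtain ⟨X, Y, εX, ε, hdisj, hTX, hT1, hXc, hYc, hX, hε, hYdeg, -, hrel, hYsum, hK0, -⟩ :=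
    exists_values F
  obtain ⟨θ, hYeq⟩ := Finset.card_eq_one.1 hYc
  have hθ : θ ∈ Y := by rw [hYeq]; exact Finset.mem_singleton_self θ
  let d : IrrCharacter G → ℤ := fun χ => (charDegree (χ : G → ℂ) : ℤ)
  have hone : ∀ χ : IrrCharacter G, (χ : G → ℂ) 1 = (d χ : ℂ) := fun χ => by
    rw [apply_one_eq_charDegree]; simp [d]
  have hθT : θ ≠ trivChar G := fun e => Finset.disjoint_left.1 hdisj hTX (e ▸ hθ)
  -- the sign of each principal character
  let σ : IrrCharacter G → ℤ := fun χ => if χ ∈ X then εX χ else -ε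
  set S := (X ∪ Y).erase (trivChar G) with hSdef
  have hSc : S.card = 4 := by
    rw [hSdef, Finset.card_erase_of_mem (Finset.mem_union_left _ hTX),
      Finset.card_union_of_disjoint hdisj, hXc, hYc]
  have hσ : ∀ χ ∈ X ∪ Y, σ χ = 1 ∨ σ χ = -1 := by
    intro χ hχ
    by_cases h : χ ∈ X
    · simp only [σ, if_pos h]; exact (hX χ h).1
    · simp only [σ, if_neg h]; omega
  have hσθ : σ θ = -ε := if_neg (fun h => Finset.disjoint_left.1 hdisj h hθ)
  have hσT : σ (trivChar G) = 1 := (if_pos hTX).trans hT1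
  have hrelσ : ∀ g : G, ¬ 5 ∣ orderOf g →
      ∑ χ ∈ S, (σ χ : ℂ) * (χ : G → ℂ) g = -1 := by
    intro g hg
    have h : ∑ χ ∈ X ∪ Y, (σ χ : ℂ) * (χ : G → ℂ) g = 0 := by
      rw [Finset.sum_union hdisj, hYeq, Finset.sum_singleton, hσθ, Int.cast_neg, neg_mul,
        hrel θ hθ g hg, ← sub_eq_add_neg, sub_eq_zero]
      exact Finset.sum_congr rfl fun χ hχ => by simp only [σ, if_pos hχ]
    rw [← Finset.add_sum_erase _ _ (Finset.mem_union_left _ hTX), hσT, trivChar_apply, ← hSdef]
      at h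
    push_cast at h
    linear_combination h
  -- the values at `y`
  have hyval : ∀ χ ∈ X ∪ Y, (χ : G → ℂ) y = (σ χ : ℂ) := by
    intro χ hχ
    rcases Finset.mem_union.1 hχ with h | h
    · simp only [σ, if_pos h]; exact (hX χ h).2.2 y hystar
    · rw [hYeq, Finset.mem_singleton] at h
      subst h
      have hd := sum_degree_mul_apply_of_ne_one hy1
      rw [← Finset.sum_subset (Finset.subset_univ (X ∪ Y))
        (fun χ _ hχ => by rw [hK0 χ hχ y hystar, mul_zero]), Finset.sum_union hdisj, hYeq,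
        Finset.sum_singleton,
        Finset.sum_congr rfl (s₁ := X) (g := fun χ => (εX χ : ℂ) * (χ : G → ℂ) 1)
          (fun χ hχ => by rw [(hX χ hχ).2.2 _ hystar, mul_comm]),
        ← hrel χ hθ 1 (by rw [orderOf_one]; norm_num)] at hd
      rw [hσθ, Int.cast_neg]
      refine mul_left_cancel₀ (IsIrr.apply_one_ne_zero χ.2) ?_
      linear_combination hd
  have hystarsum : ∀ χ ∈ X ∪ Y, ∑ x ∈ star (P : Subgroup G), (χ : G → ℂ) x = 4 * (σ χ : ℂ) := by
    intro χ hχ
    rcases Finset.mem_union.1 hχ with h | h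
    · rw [Finset.sum_congr rfl (g := fun _ => (εX χ : ℂ)) (fun x hx => (hX χ h).2.2 x hx),
        Finset.sum_const, nsmul_eq_mul]
      simp only [σ, if_pos h]
      rw [show (star (P : Subgroup G)).card = 4 by
        have := card_star (P : Subgroup G); rw [F.card] at this; omega]
      norm_num
    · rw [hYsum χ h]
      rw [hYeq, Finset.mem_singleton] at h
      subst h
      rw [hσθ]
      push_cast
      ring
  -- the data of each character
  have hdata : ∀ χ ∈ S, ∃ k : ℤ, (χ : G → ℂ) u = k ∧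
      ∃ q, Opt (σ χ * d χ) (σ χ * k) q := by
    intro χ hχS
    obtain ⟨hne, hχ⟩ := Finset.mem_erase.1 hχS
    obtain ⟨k, hk⟩ := CfsgLib.Perm.SelfCentDegree.exists_int_of_sq_eq_one χ hu2
    refine ⟨k, hk, ?_⟩
    have h4 : (4 : ℤ) ∣ d χ - k := four_dvd_degree_sub F.perf χ hu2 hk
    letI : Fintype (P : Subgroup G) := @Subgroup.instFintypeSubtypeMemOfDecidablePred G _ _
      (fun _ => Classical.propDecidable _) _
    obtain ⟨f, hf⟩ := CharAverage.exists_sum_eq (P : Subgroup G) (IsIrr.isCharacter χ.2)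
    rw [sum_subgroup, F.card, hystarsum χ hχ, hone] at hf
    have hf' : d χ + 4 * σ χ = 5 * (f : ℤ) := by exact_mod_cast hf
    have hkf : |k| ≤ (f : ℤ) := by
      have h := CharAverage.norm_sum_le (P : Subgroup G) (IsIrr.isCharacter χ.2)
        (F.zpowers_le_normalizer huA)
      rw [F.sum_coset (fun g h => IsIrr.isClassFunction χ.2 g h) huA hu1, sum_subgroup,
        hystarsum χ hχ, hone, hk, norm_mul, Complex.norm_natCast, Complex.norm_intCast] at h
      have hre : ((d χ : ℂ) + 4 * (σ χ : ℂ)).re = (d χ : ℝ) + 4 * (σ χ : ℝ) := by simp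
      rw [hre] at h
      have h' : 5 * |k| ≤ d χ + 4 * σ χ := by exact_mod_cast h
      omega
    have hdvd : charDegree (χ : G → ℂ) ∣ 4320 := hG ▸ charDegree_dvd_card χ
    have hd1 : charDegree (χ : G → ℂ) ≠ 1 := fun e => hne (eq_trivChar F.perf χ e)
    have hle : charDegree (χ : G → ℂ) ≤ 65 := by
      have h : ∑ ψ : IrrCharacter G, charDegree (ψ : G → ℂ) ^ 2 = Nat.card G := by
        rw [← Nat.cast_inj (R := ℂ), Nat.cast_sum, ← sum_sq_degree]
        exact Finset.sum_congr rfl fun ψ _ => by rw [apply_one_eq_charDegree, Nat.cast_pow]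
      have h2 := Finset.single_le_sum (f := fun ψ : IrrCharacter G => charDegree (ψ : G → ℂ) ^ 2)
        (fun _ _ => Nat.zero_le _) (Finset.mem_univ χ)
      rw [h, hG] at h2
      by_contra hlt
      have : 66 ^ 2 ≤ charDegree (χ : G → ℂ) ^ 2 := Nat.pow_le_pow_left (by omega) 2
      omega
    have hs : σ χ * d χ = 6 ∨ σ χ * d χ = 16 ∨ σ χ * d χ = 36 ∨ σ χ * d χ = -4 ∨
        σ χ * d χ = -9 ∨ σ χ * d χ = -24 ∨ σ χ * d χ = -54 := by
      simp only [d] at hf' ⊢
      clear h4 hkf hk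
      generalize charDegree (χ : G → ℂ) = D at hdvd hd1 hle hf' ⊢
      obtain ⟨j, hj⟩ := hdvd
      rcases hσ χ hχ with e | e <;> rw [e] at hf' ⊢ <;> interval_cases D <;> omega
    have hq : ∃ q, σ χ * d χ * q = 864 * (σ χ * k) ^ 2 := by
      have h2 : (σ χ * k) ^ 2 = k ^ 2 := by
        rcases hσ χ hχ with e | e <;> rw [e] <;> ring
      rw [h2]
      rcases hs with e | e | e | e | e | e | e <;> rw [e]
      exacts [⟨144 * k ^ 2, by ring⟩, ⟨54 * k ^ 2, by ring⟩, ⟨24 * k ^ 2, by ring⟩,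
        ⟨-216 * k ^ 2, by ring⟩, ⟨-96 * k ^ 2, by ring⟩, ⟨-36 * k ^ 2, by ring⟩,
        ⟨-16 * k ^ 2, by ring⟩]
    obtain ⟨q, hq⟩ := hq
    refine ⟨q, hs, ?_, ?_, hq⟩
    · rcases hσ χ hχ with e | e <;> rw [e] at hf' ⊢
      · rw [one_mul, one_mul, show d χ + 4 = 5 * f by omega, abs_mul]
        simp only [Nat.abs_ofNat, Nat.abs_cast]
        omega
      · rw [show (-1 : ℤ) * d χ + 4 = -(5 * f) by omega, neg_one_mul, abs_neg, abs_neg, abs_mul]
        simp only [Nat.abs_ofNat, Nat.abs_cast]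
        omega
    · obtain ⟨j, hj⟩ := h4
      exact ⟨σ χ * j, by linear_combination σ χ * hj⟩
  choose! k hk q hq using hdata
  -- two special characters
  obtain ⟨M, hM⟩ := CfsgLib.ZStar.exists_isPModular h5
  haveI := hM.2.1.isPrime
  have hspec : ∀ {r : ℕ}, r.Prime → ∃ χ ∈ S, ¬ r ∣ charDegree (χ : G → ℂ) := by
    intro r hr
    obtain ⟨χ, -, h1, hrd, -, hne⟩ := exists_nonvanishing F.perf h5 hsq hr hM hy
    refine ⟨χ, Finset.mem_erase.2 ⟨fun e => h1 ?_, ?_⟩, hrd⟩
    · rw [e, charDegree, trivChar_apply]; simp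
    · by_contra h
      exact hne (hK0 χ h y hystar)
  obtain ⟨A, hA, hA2⟩ := hspec Nat.prime_two
  obtain ⟨B, hB, hB3⟩ := hspec Nat.prime_three
  have hsA : σ A * d A = -9 := by
    have h := (hq A hA).1
    rcases hσ A (Finset.mem_of_mem_erase hA) with e | e <;> rw [e] at h ⊢ <;>
      simp only [d] at h ⊢ <;> omega
  have hsB : σ B * d B = 16 ∨ σ B * d B = -4 := by
    have h := (hq B hB).1
    rcases hσ B (Finset.mem_of_mem_erase hB) with e | e <;> rw [e] at h ⊢ <;>
      simp only [d] at h ⊢ <;> omega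
  have hAB : A ≠ B := fun e => by rw [e] at hsA; omega
  obtain ⟨C, D, hCD, hrest⟩ := Finset.card_eq_two.1
    (show ((S.erase A).erase B).card = 2 by
      rw [Finset.card_erase_of_mem (Finset.mem_erase.2 ⟨hAB.symm, hB⟩),
        Finset.card_erase_of_mem hA, hSc])
  have hsum : ∀ f : IrrCharacter G → ℂ, ∑ χ ∈ S, f χ = f A + f B + f C + f D := by
    intro f
    rw [← Finset.add_sum_erase _ _ hA,
      ← Finset.add_sum_erase _ _ (Finset.mem_erase.2 ⟨hAB.symm, hB⟩), hrest, Finset.sum_pair hCD]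
    ring
  have hC : C ∈ S := Finset.mem_of_mem_erase (Finset.mem_of_mem_erase
    (by rw [hrest]; exact Finset.mem_insert_self _ _))
  have hD : D ∈ S := Finset.mem_of_mem_erase (Finset.mem_of_mem_erase
    (by rw [hrest]; exact Finset.mem_insert_of_mem (Finset.mem_singleton_self _)))
  have hs1 := hrelσ 1 (by rw [orderOf_one]; norm_num)
  have hw1 := hrelσ u hureg
  rw [hsum, hone, hone, hone, hone] at hs1
  rw [hsum, hk A hA, hk B hB, hk C hC, hk D hD] at hw1
  -- the class equation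
  set c := Nat.card (centralizer ({u} : Set G)) with hc
  have hcnt := CfsgLib.CharDegree.sum_three (G := G) u u y
  rw [(count_solutions (by decide) hy hu2 hu2 hinv ((F.cent _ hyP hy1).trans hPy)).2
    (IsConj.refl u), hG] at hcnt
  rw [← Finset.sum_subset (Finset.subset_univ (X ∪ Y))
    (fun χ _ hχ => by rw [hK0 χ hχ y hystar, mul_zero, zero_div]),
    ← Finset.add_sum_erase _ _ (Finset.mem_union_left _ hTX), ← hSdef, hsum] at hcnt
  simp only [trivChar_apply, one_mul, div_one, ← hc] at hcnt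
  have hterm : ∀ χ ∈ S, (χ : G → ℂ) u * (χ : G → ℂ) u * (χ : G → ℂ) y / (χ : G → ℂ) 1 =
      (q χ : ℂ) / 864 := by
    intro χ hχ
    have h := (hq χ hχ).2.2.2
    have hσ2 : σ χ * σ χ = 1 := by
      rcases hσ χ (Finset.mem_of_mem_erase hχ) with e | e <;> rw [e] <;> rfl
    have h' : d χ * q χ = 864 * (k χ * k χ * σ χ) := by
      linear_combination σ χ * h + (864 * k χ * k χ * σ χ - d χ * q χ) * hσ2
    have h'' : (d χ : ℂ) * q χ = 864 * (k χ * k χ * σ χ) := by exact_mod_cast h'
    rw [hk χ hχ, hyval χ (Finset.mem_of_mem_erase hχ),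
      div_eq_div_iff (IsIrr.apply_one_ne_zero χ.2) (by norm_num), hone]
    linear_combination -h''
  rw [hterm A hA, hterm B hB, hterm C hC, hterm D hD] at hcnt
  have hcnt' : (c : ℤ) ^ 2 = 864 + q A + q B + q C + q D := by
    have : (((c : ℤ) ^ 2 : ℤ) : ℂ) = ((864 + q A + q B + q C + q D : ℤ) : ℂ) := by
      push_cast at hcnt ⊢
      linear_combination -(1 / 5 : ℂ) * hcnt
    exact_mod_cast this
  -- the column of `u`
  have hcol : (1 : ℤ) + (σ A * k A) ^ 2 + (σ B * k B) ^ 2 + (σ C * k C) ^ 2 + (σ D * k D) ^ 2 ≤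
      (c : ℤ) := by
    haveI : Decidable (IsConj u u) := Classical.dec _
    have h := column_orthogonality u u
    rw [if_pos (IsConj.refl u), ← hc] at h
    simp only [Complex.mul_conj, ← Complex.ofReal_sum] at h
    have h' : ∑ χ : IrrCharacter G, Complex.normSq ((χ : G → ℂ) u) = (c : ℝ) := by
      exact_mod_cast h
    have hle : ∑ χ ∈ X ∪ Y, Complex.normSq ((χ : G → ℂ) u) ≤
        ∑ χ : IrrCharacter G, Complex.normSq ((χ : G → ℂ) u) :=
      Finset.sum_le_sum_of_subset_of_nonneg (Finset.subset_univ _) fun _ _ _ =>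
        Complex.normSq_nonneg _
    have hsumR : ∀ f : IrrCharacter G → ℝ, ∑ χ ∈ S, f χ = f A + f B + f C + f D := by
      intro f
      rw [← Finset.add_sum_erase _ _ hA,
        ← Finset.add_sum_erase _ _ (Finset.mem_erase.2 ⟨hAB.symm, hB⟩), hrest, Finset.sum_pair hCD]
      ring
    rw [← Finset.add_sum_erase _ _ (Finset.mem_union_left _ hTX), ← hSdef, hsumR, trivChar_apply,
      map_one, hk A hA, hk B hB, hk C hC, hk D hD, h'] at hle
    simp only [← Complex.ofReal_intCast, Complex.normSq_ofReal] at hle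
    have e : ∀ χ ∈ S, (σ χ * k χ) ^ 2 = k χ * k χ := fun χ hχ => by
      rcases hσ χ (Finset.mem_of_mem_erase hχ) with e | e <;> rw [e] <;> ring
    rw [e A hA, e B hB, e C hC, e D hD]
    have hle' : (1 : ℝ) + k A * k A + k B * k B + k C * k C + k D * k D ≤ (c : ℝ) := by linarith
    exact_mod_cast hle'
  refine arith (hq A hA) (hq B hB) (hq C hC) (hq D hD) hsA hsB ?_ ?_ hcnt' (by positivity) hcol
  · exact_mod_cast hs1
  · exact_mod_cast hw1

end CfsgLib.Perm.ThreePrimeOrder
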