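import Cfsg.Agent.Lib.Perm.ThreePrimeOrder.SignedBlock
import Cfsg.Agent.Lib.Perm.ThreePrimeOrder.Five
import Cfsg.Agent.Lib.Perm.SylowFixed
import Mathlib.GroupTheory.PGroup

/-!
# No simple group of order `5040`: the Sylow `7`-subgroups

* `card_centralizer_involution`: an involution commuting with an element of order seven has a
  centralizer of order `336`.
* `card_centralizer_three`: an element of order three commuting with one of order seven has a
  centralizer of order dividing `1008` and divisible by `63`.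
* `index_fifteen_false`: a centralizer of index `15` cannot contain the normalizer.
* `signed_false`: the self-centralizing case.
-/

set_option autoImplicit false

namespace CfsgLib.Perm.ThreePrimeOrder

open Cfsg CfsgLib.Char CfsgLib.Blocks Subgroup CfsgLib.Perm.FewSylow
open scoped Classical ComplexConjugate

variable {G : Type*} [Group G] [Fintype G]

/-- The Sylow subgroups of a subgroup containing `P`, counted through the normalizer. -/
theorem exists_count_in_subgroup {p : ℕ} [Fact p.Prime] (P : Sylow p G) (H : Subgroup G)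
    (hPH : (P : Subgroup G) ≤ H) :
    ∃ s, s % p = 1 ∧
      Nat.card ↥(normalizer ((P : Subgroup G) : Set G) ⊓ H) * s = Nat.card H := by
  let P' : Sylow p H := P.subtype hPH
  have h1 := card_sylow_modEq_one p H
  rw [Nat.ModEq, Nat.one_mod_eq_one.2 (Fact.out : p.Prime).ne_one] at h1
  refine ⟨_, h1, ?_⟩
  rw [← CfsgLib.Perm.card_normalizer_mul_card_sylow P']
  congr 1
  rw [← Nat.card_congr (subgroupOfEquivOfLe
    (H := normalizer ((P : Subgroup G) : Set G) ⊓ H) (K := H) inf_le_right).toEquiv]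
  have he : (normalizer ((P : Subgroup G) : Set G) ⊓ H).subgroupOf H =
      normalizer ((P' : Subgroup H) : Set H) := by
    ext x
    have hP' : ∀ z : H, z ∈ (P' : Subgroup H) ↔ (z : G) ∈ (P : Subgroup G) := fun z => Iff.rfl
    simp only [mem_subgroupOf, mem_inf, SetLike.coe_mem, and_true, mem_normalizer_iff]
    refine ⟨fun h w => ?_, fun h g => ⟨fun hg => ?_, fun hg => ?_⟩⟩
    · rw [hP', hP', coe_mul, coe_mul, coe_inv]
      exact h _
    · have := (h ⟨g, hPH hg⟩).1 ((hP' _).2 hg)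
      rwa [hP', coe_mul, coe_mul, coe_inv] at this
    · have hgH : g ∈ H := by
        have := mul_mem (mul_mem (inv_mem x.2) (hPH hg)) x.2
        rwa [show (x : G)⁻¹ * ((x : G) * g * (x : G)⁻¹) * x = g by group] at this
      refine (hP' ⟨g, hgH⟩).1 ((h ⟨g, hgH⟩).2 ?_)
      rwa [hP', coe_mul, coe_mul, coe_inv]
  rw [he]

/-- The class size times the value over the degree is integral, stated with natural numbers. -/
theorem dvd_class_mul {χ : IrrCharacter G} {g : G} {k : ℤ} (hk : (χ : G → ℂ) g = k) :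
    charDegree (χ : G → ℂ) ∣ (centralizer ({g} : Set G)).index * k.natAbs := by
  have hint := CfsgLib.CharDegree.isIntegral_centralChar χ g
  rw [centralChar, hk, apply_one_eq_charDegree] at hint
  refine CfsgLib.CharIntegral.dvd_of_isIntegral_div (CfsgLib.CharDegree.charDegree_pos χ).ne' ?_
  rw [Nat.cast_mul]
  rcases Int.natAbs_eq k with h | h
  · rw [h, Int.cast_natCast] at hint
    exact hint
  · rw [h, Int.cast_neg, Int.cast_natCast] at hint
    have h2 := hint.neg
    rwa [← neg_div, mul_neg, neg_neg] at h2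

/-- An odd degree prime to `7`. -/
theorem odd_degree_cases (hG : Nat.card G = 5040) {d : ℕ} (hd : d ∣ Nat.card G) (h2 : ¬ 2 ∣ d)
    (h7 : ¬ 7 ∣ d) (h1 : d ≠ 1) : d = 3 ∨ d = 5 ∨ d = 9 ∨ d = 15 ∨ d = 45 := by
  have h315 : d ∣ 7 * 45 :=
    Nat.Coprime.dvd_of_dvd_mul_left (m := 2 ^ 4)
      ((Nat.prime_two.coprime_iff_not_dvd.2 h2).symm.pow_right 4) (by rw [hG] at hd; exact hd)
  have h45 : d ∣ 45 := Nat.Coprime.dvd_of_dvd_mul_left (m := 7)
    (((show Nat.Prime 7 by norm_num).coprime_iff_not_dvd.2 h7).symm) h315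
  have := Nat.le_of_dvd (by norm_num) h45
  interval_cases d <;> omega

section Simple

variable [IsSimpleGroup G]

/-- An odd principal block character not vanishing at `y`. -/
theorem exists_odd_char (hG : Nat.card G = 5040) {y : G} (hy : orderOf y = 7) {M : Ideal AlgInt}
    [M.IsPrime] (hM : IsPModular 7 M) :
    ∃ χ : IrrCharacter G, χ ∈ principalBlock M G ∧ charDegree (χ : G → ℂ) ≠ 1 ∧
      (charDegree (χ : G → ℂ) = 3 ∨ charDegree (χ : G → ℂ) = 5 ∨ charDegree (χ : G → ℂ) = 9 ∨
        charDegree (χ : G → ℂ) = 15 ∨ charDegree (χ : G → ℂ) = 45) := by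
  have hnc : ¬ IsMulCommutative G :=
    CfsgLib.Perm.not_comm_of_not_prime (by rw [hG]; norm_num)
  obtain ⟨χ, hB, h1, h2, h7, -⟩ := exists_nonvanishing (perfect_of_nc hnc)
    (by norm_num : Nat.Prime 7) (by rw [hG]; norm_num) Nat.prime_two hM hy
  exact ⟨χ, hB, h1, odd_degree_cases hG (charDegree_dvd_card χ) h2 h7 h1⟩

theorem card_centralizer_involution (hG : Nat.card G = 5040) {y u : G} (hy : orderOf y = 7)
    (hu : orderOf u = 2) (huC : u ∈ centralizer ({y} : Set G)) :
    Nat.card (centralizer ({u} : Set G)) = 336 := by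
  have := Fintype.ofFinite (IrrCharacter G)
  have h7 : Nat.Prime 7 := by norm_num
  have hnc : ¬ IsMulCommutative G :=
    CfsgLib.Perm.not_comm_of_not_prime (by rw [hG]; norm_num)
  have hperf := perfect_of_nc hnc
  have hsq : ¬ 7 * 7 ∣ Nat.card G := by rw [hG]; norm_num
  obtain ⟨M, hM⟩ := CfsgLib.ZStar.exists_isPModular h7
  haveI := hM.2.1.isPrime
  obtain ⟨χ, hB, h1, hdcases⟩ := exists_odd_char hG hy hM
  have hu1 : u ≠ 1 := fun e => by rw [e, orderOf_one] at hu; omega
  have hu2 : u * u = 1 := by rw [← pow_two, ← hu, pow_orderOf_eq_one]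
  have hval : ∀ i, i < 7 → i ≠ 0 → (χ : G → ℂ) (y ^ i * u) = (χ : G → ℂ) (y ^ i) := fun i hi hi0 =>
    apply_pow_mul_eq h7 hsq hM hB hy huC (by rw [hu]; norm_num) hi hi0
  obtain ⟨k, hk⟩ := CfsgLib.Perm.SelfCentDegree.exists_int_of_sq_eq_one χ hu2
  have hlt : 7 ≤ charDegree (χ : G → ℂ) := by
    by_contra h
    exact hu1 (eq_one_of_apply_eq h1
      (apply_eq_of_deg_lt χ h7 (by rw [← hy, pow_orderOf_eq_one]) (by omega) hval))
  have hkd : k ≠ charDegree (χ : G → ℂ) := fun e => hu1 (eq_one_of_apply_eq h1 (by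
    rw [hk, apply_one_eq_charDegree, e, Int.cast_natCast]))
  have h14 := two_p_dvd_degree_sub h7 (by norm_num) hy hu
    (mem_centralizer_singleton_iff.1 huC).symm hk hval
  have h4 := four_dvd_degree_sub hperf χ hu2 hk
  have hle : k.natAbs ≤ charDegree (χ : G → ℂ) := by
    have h := IsChar.norm_le (IsIrr.isCharacter χ.2) u
    rw [hk, apply_one_eq_charDegree, Complex.norm_intCast, Complex.norm_natCast] at h
    have h' : |k| ≤ (charDegree (χ : G → ℂ) : ℤ) := by exact_mod_cast h
    rw [Int.abs_eq_natAbs] at h'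
    omega
  set c := Nat.card (centralizer ({u} : Set G)) with hc
  have hcol : 1 + k.natAbs * k.natAbs ≤ c := by
    haveI : Decidable (IsConj u u) := Classical.dec _
    have h := column_orthogonality u u
    rw [if_pos (IsConj.refl u), ← hc] at h
    simp only [Complex.mul_conj, ← Complex.ofReal_sum] at h
    have h' : ∑ ψ : IrrCharacter G, Complex.normSq ((ψ : G → ℂ) u) = (c : ℝ) := by
      exact_mod_cast h
    have hne : trivChar G ≠ χ := fun e => h1 (by rw [← e, charDegree, trivChar_apply]; simp)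
    have hle2 : ∑ ψ ∈ ({trivChar G, χ} : Finset (IrrCharacter G)), Complex.normSq ((ψ : G → ℂ) u) ≤
        ∑ ψ : IrrCharacter G, Complex.normSq ((ψ : G → ℂ) u) :=
      Finset.sum_le_sum_of_subset_of_nonneg (Finset.subset_univ _) fun _ _ _ =>
        Complex.normSq_nonneg _
    rw [Finset.sum_pair hne, trivChar_apply, map_one, hk, ← Complex.ofReal_intCast,
      Complex.normSq_ofReal, h'] at hle2
    have h3 : 1 + k * k ≤ (c : ℤ) := by exact_mod_cast hle2
    rw [← Int.natAbs_mul_self (a := k)] at h3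
    exact_mod_cast h3
  have hdvd := dvd_class_mul hk
  have hidx : c * (centralizer ({u} : Set G)).index = 5040 := by rw [hc, card_mul_index, hG]
  have hidxle : (centralizer ({u} : Set G)).index ≤ 5040 :=
    Nat.le_of_dvd (by norm_num) ⟨c, by rw [mul_comm]; exact hidx.symm⟩
  generalize (centralizer ({u} : Set G)).index = h at hdvd hidx hidxle
  rcases hdcases with hd | hd | hd | hd | hd <;> rw [hd] at hlt hkd h14 h4 hle hdvd
  · omega
  · omega
  · omega
  · obtain rfl : k = -13 := by omega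
    have h15 : 15 ∣ h :=
      (show Nat.Coprime 15 13 by norm_num).dvd_of_dvd_mul_right (by simpa using hdvd)
    obtain ⟨j, rfl⟩ := h15
    have hc336 : c * j = 336 := by linarith
    have hcle : 170 ≤ c := by norm_num at hcol; omega
    have hj1 : j = 1 := by
      rcases Nat.lt_or_ge j 2 with hj | hj
      · rcases Nat.eq_zero_or_pos j with rfl | hj0
        · simp at hc336
        · omega
      · have := Nat.mul_le_mul hcle hj
        omega
    rw [hj1, mul_one] at hc336
    exact hc336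
  · exfalso
    have hk' : k = 17 ∨ k = -11 ∨ k = -39 := by omega
    rcases hk' with rfl | rfl | rfl <;> norm_num at hdvd hcol
    · obtain ⟨j, rfl⟩ := (show Nat.Coprime 45 17 by norm_num).dvd_of_dvd_mul_right hdvd
      have : c * j = 112 := by linarith
      have hj : 1 ≤ j := Nat.pos_of_ne_zero fun e => by subst e; omega
      have := Nat.mul_le_mul hcol hj
      omega
    · obtain ⟨j, rfl⟩ := (show Nat.Coprime 45 11 by norm_num).dvd_of_dvd_mul_right hdvd
      have : c * j = 112 := by linarith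
      have hj : 1 ≤ j := Nat.pos_of_ne_zero fun e => by subst e; omega
      have := Nat.mul_le_mul hcol hj
      omega
    · have hh : 1 ≤ h := Nat.pos_of_ne_zero fun e => by subst e; omega
      have h15 : 15 ∣ h := by
        refine (show Nat.Coprime 15 13 by norm_num).dvd_of_dvd_mul_right ?_
        obtain ⟨j, hj⟩ := hdvd
        exact ⟨j, by omega⟩
      have := Nat.mul_le_mul hcol (Nat.le_of_dvd hh h15)
      omega

theorem card_centralizer_three (hG : Nat.card G = 5040) {y v : G} (hy : orderOf y = 7)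
    (hv : orderOf v = 3) (hvC : v ∈ centralizer ({y} : Set G)) :
    63 ∣ Nat.card (centralizer ({v} : Set G)) ∧ Nat.card (centralizer ({v} : Set G)) ∣ 1008 := by
  have h7 : Nat.Prime 7 := by norm_num
  haveI : Fact (Nat.Prime 3) := ⟨Nat.prime_three⟩
  have hnc : ¬ IsMulCommutative G :=
    CfsgLib.Perm.not_comm_of_not_prime (by rw [hG]; norm_num)
  have hperf := perfect_of_nc hnc
  have hsq : ¬ 7 * 7 ∣ Nat.card G := by rw [hG]; norm_num
  set H := centralizer ({v} : Set G) with hH
  have hyv : Commute y v := (mem_centralizer_singleton_iff.1 hvC).symm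
  have h7H : 7 ∣ Nat.card H := by
    rw [← hy]
    exact Subgroup.orderOf_dvd_natCard _ (mem_centralizer_singleton_iff.2 hyv)
  have h9 : 9 ∣ Nat.card H := by
    have hz : IsPGroup 3 (zpowers v) :=
      IsPGroup.of_card (n := 1) (by rw [Nat.card_zpowers, hv, pow_one])
    obtain ⟨Q, hQ⟩ := hz.exists_le_sylow
    have hQc : Nat.card (Q : Subgroup G) = 3 ^ 2 :=
      CfsgLib.Perm.sylow_card_eq Q (m := 560) (by rw [hG]; norm_num) (by norm_num)
    haveI := IsPGroup.isMulCommutative_of_card_eq_prime_sq (p := 3) hQc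
    have hle : (Q : Subgroup G) ≤ H := fun x hx => by
      rw [hH, mem_centralizer_singleton_iff]
      exact congrArg Subtype.val
        (mul_comm' (⟨x, hx⟩ : (Q : Subgroup G)) ⟨v, hQ (mem_zpowers v)⟩)
    have := card_dvd_of_le hle
    rw [hQc] at this
    exact this
  have h63 : 63 ∣ Nat.card H :=
    Nat.Coprime.mul_dvd_of_dvd_of_dvd (show Nat.Coprime 9 7 by norm_num) h9 h7H
  refine ⟨h63, ?_⟩
  obtain ⟨M, hM⟩ := CfsgLib.ZStar.exists_isPModular h7
  haveI := hM.2.1.isPrime
  obtain ⟨χ, hB, h1, hdcases⟩ := exists_odd_char hG hy hM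
  have hv1 : v ≠ 1 := fun e => by rw [e, orderOf_one] at hv; omega
  have hval : ∀ w ∈ zpowers v, ∀ i, i < 7 → i ≠ 0 →
      (χ : G → ℂ) (y ^ i * w) = (χ : G → ℂ) (y ^ i) := fun w hw i hi hi0 =>
    apply_pow_mul_eq h7 hsq hM hB hy ((zpowers_le.2 hvC) hw) (fun h => by
      have h3 : orderOf w ∣ 3 := by
        exact (Subgroup.orderOf_dvd_natCard _ hw).trans (by rw [Nat.card_zpowers, hv])
      have := Nat.le_of_dvd (by norm_num) (h.trans h3)
      omega) hi hi0
  have hlt : 7 ≤ charDegree (χ : G → ℂ) := by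
    by_contra h
    exact hv1 (eq_one_of_apply_eq h1 (apply_eq_of_deg_lt χ h7 (by rw [← hy, pow_orderOf_eq_one])
      (by omega) (hval v (mem_zpowers v))))
  obtain ⟨m, hm0, hmle, hm⟩ : ∃ m : ℕ, m ≠ 0 ∧ 7 * m ≤ charDegree (χ : G → ℂ) ∧
      (χ : G → ℂ) v + (χ : G → ℂ) (v ^ 2) =
        2 * (charDegree (χ : G → ℂ) : ℂ) - 3 * (7 * m : ℕ) := by
    have hzsum : ∀ w : G, ∃ d : ℕ, ∑ i ∈ Finset.range (orderOf w), (χ : G → ℂ) (w ^ i) =
        (orderOf w : ℂ) * d := by
      intro w
      haveI := Fintype.ofFinite (zpowers w)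
      obtain ⟨d, hd⟩ := CharAverage.exists_sum_eq (zpowers w) (IsIrr.isCharacter χ.2)
      refine ⟨d, ?_⟩
      rw [Nat.card_zpowers] at hd
      rw [← hd, ← Equiv.sum_comp (finEquivZPowers (isOfFinOrder_of_finite w)),
        ← Fin.sum_univ_eq_sum_range (fun i => (χ : G → ℂ) (w ^ i))]
      exact Finset.sum_congr rfl fun i _ => by rw [finEquivZPowers_apply]
    obtain ⟨a, ha⟩ := hzsum y
    obtain ⟨b, hb⟩ := hzsum v
    obtain ⟨c, hc⟩ := hzsum (y * v)
    have hord : orderOf (y * v) = 21 := by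
      rw [hyv.orderOf_mul_eq_mul_orderOf_of_coprime (by rw [hy, hv]; norm_num), hy, hv]
    rw [hy] at ha
    rw [hv] at hb
    rw [hord] at hc
    have e : ∀ i, (y * v) ^ i = y ^ (i % 7) * v ^ (i % 3) := fun i => by
      rw [hyv.mul_pow, ← pow_mod_orderOf y, hy, ← pow_mod_orderOf v i, hv]
    have hs : ∀ i, i < 7 → i ≠ 0 → ∀ j : ℕ,
        (χ : G → ℂ) (y ^ i * v ^ j) = (χ : G → ℂ) (y ^ i) :=
      fun i hi hi0 j => hval _ (pow_mem (mem_zpowers v) j) i hi hi0
    simp only [Finset.sum_range_succ, Finset.sum_range_zero, pow_zero, pow_one, zero_add] at ha hb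
    simp only [e, Finset.sum_range_succ, Finset.sum_range_zero, zero_add] at hc
    norm_num at hc
    have hs1 := hs 1 (by norm_num) (by norm_num)
    have hs2 := hs 2 (by norm_num) (by norm_num)
    have hs3 := hs 3 (by norm_num) (by norm_num)
    have hs4 := hs 4 (by norm_num) (by norm_num)
    have hs5 := hs 5 (by norm_num) (by norm_num)
    have hs6 := hs 6 (by norm_num) (by norm_num)
    have hs1' := hs1 1
    have hs2' := hs2 1
    have hs3' := hs3 1
    have hs4' := hs4 1
    have hs5' := hs5 1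
    have hs6' := hs6 1
    simp only [pow_one] at hs1 hs1' hs2' hs3' hs4' hs5' hs6'
    simp only [hs1, hs2, hs3, hs4, hs5, hs6, hs1', hs2', hs3', hs4', hs5', hs6', one_mul,
      pow_zero, pow_one, mul_one] at hc
    push_cast at ha hb hc
    rw [apply_one_eq_charDegree] at ha hb hc
    have hsum : (χ : G → ℂ) v + (χ : G → ℂ) (v ^ 2) =
        2 * (charDegree (χ : G → ℂ) : ℂ) + 21 * (c : ℂ) - 21 * a := by
      linear_combination hc - 3 * ha
    have hn1 := IsChar.norm_le (IsIrr.isCharacter χ.2) v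
    have hn2 := IsChar.norm_le (IsIrr.isCharacter χ.2) (v ^ 2)
    rw [apply_one_eq_charDegree, Complex.norm_natCast] at hn1 hn2
    have hre1 := (Complex.re_le_norm _).trans hn1
    have hre2 := (Complex.re_le_norm _).trans hn2
    have hre := congrArg Complex.re hsum
    simp only [Complex.add_re, Complex.sub_re, Complex.mul_re, Complex.natCast_re,
      Complex.natCast_im, Complex.re_ofNat, Complex.im_ofNat, mul_zero, sub_zero] at hre
    have hca : c ≤ a := by
      have : (21 : ℝ) * c ≤ 21 * a := by linarith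
      exact_mod_cast le_of_mul_le_mul_left this (by norm_num)
    have hca' : c ≠ a := by
      intro e0
      subst e0
      have hre' : ((χ : G → ℂ) v).re = (charDegree (χ : G → ℂ) : ℝ) := by linarith
      refine hv1 (eq_one_of_apply_eq h1 ?_)
      rw [apply_one_eq_charDegree]
      have him : ((χ : G → ℂ) v).im = 0 := by
        have h2 := pow_le_pow_left₀ (norm_nonneg ((χ : G → ℂ) v)) hn1 2
        rw [← Complex.normSq_eq_norm_sq, Complex.normSq_apply, hre'] at h2
        nlinarith [mul_self_nonneg ((χ : G → ℂ) v).im]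
      exact Complex.ext (by rw [hre', Complex.natCast_re]) (by rw [him, Complex.natCast_im])
    refine ⟨a - c, by omega, ?_, ?_⟩
    · have : (3 : ℂ) * (charDegree (χ : G → ℂ) : ℂ) + 21 * c = 3 * b + 21 * a := by
        linear_combination hb - hsum
      have : 3 * charDegree (χ : G → ℂ) + 21 * c = 3 * b + 21 * a := by exact_mod_cast this
      omega
    · rw [hsum, Nat.cast_mul, Nat.cast_sub hca]
      ring
  have hidx : Nat.card H * H.index = 5040 := by rw [card_mul_index, hG]
  have hdvd : charDegree (χ : G → ℂ) ∣ H.index * (3 * (7 * m)) := by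
    have hi1 := CfsgLib.CharDegree.isIntegral_centralChar χ v
    have hi2 := CfsgLib.CharDegree.isIntegral_centralChar χ (v ^ 2)
    have hv2 : centralizer ({v ^ 2} : Set G) = H := by
      have hz : zpowers (v ^ 2) = zpowers v := by
        refine eq_of_le_of_card_ge (zpowers_le.2 (pow_mem (mem_zpowers v) 2)) ?_
        rw [Nat.card_zpowers, Nat.card_zpowers, Nat.Coprime.orderOf_pow (by rw [hv]; norm_num)]
      rw [hH, ← centralizer_closure, ← zpowers_eq_closure, hz, zpowers_eq_closure,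
        centralizer_closure]
    rw [centralChar] at hi1 hi2
    rw [hv2] at hi2
    rw [← hH] at hi1
    have h := (hi1.add hi2).sub (isIntegral_algebraMap (R := ℤ) (A := ℂ) (x := (2 * H.index : ℤ)))
    refine CfsgLib.CharIntegral.dvd_of_isIntegral_div (CfsgLib.CharDegree.charDegree_pos χ).ne' ?_
    have h2 := h.neg
    rw [apply_one_eq_charDegree, ← add_div, ← mul_add, hm] at h2
    have hd0 : (charDegree (χ : G → ℂ) : ℂ) ≠ 0 :=
      Nat.cast_ne_zero.2 (CfsgLib.CharDegree.charDegree_pos χ).ne'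
    have e : ((H.index * (3 * (7 * m)) : ℕ) : ℂ) / (charDegree (χ : G → ℂ) : ℂ) =
        -((H.index : ℂ) * (2 * (charDegree (χ : G → ℂ) : ℂ) - 3 * ((7 * m : ℕ) : ℂ)) /
          (charDegree (χ : G → ℂ) : ℂ) - (algebraMap ℤ ℂ) (2 * (H.index : ℤ))) := by
      rw [algebraMap_int_eq, eq_intCast]
      push_cast
      field_simp
      ring
    rw [e]
    exact h2
  generalize H.index = h at hdvd hidx
  have h3h : ¬ 3 ∣ h := fun h3 => by
    have := Nat.mul_dvd_mul h63 h3
    rw [hidx] at this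
    norm_num at this
  have h5h : 5 ∣ h := by
    rcases hdcases with hd | hd | hd | hd | hd <;> rw [hd] at hlt hmle hdvd
    · omega
    · omega
    · exfalso
      obtain rfl : m = 1 := by omega
      have : 3 ∣ h * 7 := by obtain ⟨j, hj⟩ := hdvd; exact ⟨j, by omega⟩
      exact h3h ((show Nat.Coprime 3 7 by norm_num).dvd_of_dvd_mul_right this)
    · have : 5 ∣ h * m := by
        refine (show Nat.Coprime 5 7 by norm_num).dvd_of_dvd_mul_right ?_
        obtain ⟨j, hj⟩ := hdvd
        exact ⟨j, by linarith⟩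
      refine (Nat.Coprime.dvd_of_dvd_mul_right ?_ this)
      exact (show Nat.Prime 5 by norm_num).coprime_iff_not_dvd.2 fun h5 => by omega
    · have : 15 ∣ h * m := by
        refine (show Nat.Coprime 15 7 by norm_num).dvd_of_dvd_mul_right ?_
        obtain ⟨j, hj⟩ := hdvd
        exact ⟨j, by linarith⟩
      have h3m : 3 ∣ m :=
        (Nat.prime_three.dvd_mul.1 (dvd_trans (by norm_num) this)).resolve_left h3h
      refine (Nat.Coprime.dvd_of_dvd_mul_right ?_ (dvd_trans (by norm_num) this : 5 ∣ h * m))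
      exact (show Nat.Prime 5 by norm_num).coprime_iff_not_dvd.2 fun h5 => by omega
  obtain ⟨j, rfl⟩ := h5h
  exact ⟨j, by linarith⟩

/-- A centralizer of index `15` containing the normalizer of a Sylow `7`-subgroup. -/
theorem index_fifteen_false [Fact (Nat.Prime 7)] (hnc : ¬ IsMulCommutative G) (P : Sylow 7 G)
    (hP : Nat.card (P : Subgroup G) = 7) {z : G} (hz : orderOf z = 2)
    (hzC : z ∈ centralizer ((P : Subgroup G) : Set G))
    (hidx : (centralizer ({z} : Set G)).index = 15)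
    (hN : normalizer ((P : Subgroup G) : Set G) ≤ centralizer ({z} : Set G)) : False := by
  classical
  set H := centralizer ({z} : Set G) with hH
  let _ := Fintype.ofFinite (G ⧸ H)
  have hHtop : H ≠ ⊤ := fun e => by rw [e, index_top] at hidx; omega
  set φ := MulAction.toPermHom G (G ⧸ H) with hφ
  have hinj := CfsgLib.Perm.toPermHom_quotient_injective H hHtop
  have hPH : (P : Subgroup G) ≤ H := le_normalizer.trans hN
  have hzH : z ∈ H := by rw [hH, mem_centralizer_singleton_iff]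
  set Fx := {q : G ⧸ H // z • q = q}
  let _ : MulAction (P : Subgroup G) Fx :=
    { smul := fun r q => ⟨(r : G) • q.1, by
        rw [smul_smul, ← (mem_centralizer_iff.1 hzC) r r.2, ← smul_smul, q.2]⟩
      one_smul := fun q => Subtype.ext (one_smul G q.1)
      mul_smul := fun r s q => Subtype.ext (mul_smul (r : G) (s : G) q.1) }
  have hbase : ∀ g ∈ H, g • ((1 : G) : G ⧸ H) = ((1 : G) : G ⧸ H) := fun g hg => by
    rw [MulAction.Quotient.smul_coe, eq_comm, QuotientGroup.eq]
    simpa using hg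
  have honly : ∀ q : G ⧸ H, (∀ r ∈ (P : Subgroup G), r • q = q) →
      q = ((1 : G) : G ⧸ H) := by
    intro q hq
    obtain ⟨g, rfl⟩ := QuotientGroup.mk_surjective q
    have hle : ((g⁻¹ • P : Sylow 7 G) : Subgroup G) ≤ H := by
      intro x hx
      rw [Sylow.coe_subgroup_smul, mem_pointwise_smul_iff_inv_smul_mem] at hx
      have h := hq _ hx
      rw [MulAction.Quotient.smul_coe, QuotientGroup.eq] at h
      have h2 := inv_mem h
      simpa [MulAut.smul_def, mul_assoc] using h2
    obtain ⟨w, hw⟩ := MulAction.exists_smul_eq H (P.subtype hPH) ((g⁻¹ • P).subtype hle)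
    have hw' : (w : G) • P = g⁻¹ • P := by
      refine Sylow.subtype_injective (N := H)
        (hP := fun x hx => ?_) (hQ := hle) ?_
      · rw [Sylow.coe_subgroup_smul, mem_pointwise_smul_iff_inv_smul_mem] at hx
        have := mul_mem (mul_mem w.2 (hPH hx)) (inv_mem w.2)
        simpa [MulAut.smul_def, mul_assoc] using this
      · rw [← hw]; exact (Sylow.smul_subtype hPH w).symm
    have hgw : g * (w : G) ∈ H := by
      refine hN (Sylow.smul_eq_iff_mem_normalizer.1 ?_)
      rw [mul_smul, hw', smul_inv_smul]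
    rw [eq_comm, QuotientGroup.eq]
    have h3 := mul_mem hgw (inv_mem w.2)
    simpa using h3
  have h := P.isPGroup'.card_modEq_card_fixedPoints Fx
  have h1 : Nat.card (MulAction.fixedPoints (P : Subgroup G) Fx) = 1 := by
    rw [Nat.card_eq_one_iff_unique]
    refine ⟨⟨fun S T => Subtype.ext (Subtype.ext ?_)⟩,
      ⟨⟨⟨_, hbase z hzH⟩, fun r => Subtype.ext (hbase _ (hPH r.2))⟩⟩⟩
    rw [honly S.1.1 fun r hr => congrArg Subtype.val (S.2 ⟨r, hr⟩),
      honly T.1.1 fun r hr => congrArg Subtype.val (T.2 ⟨r, hr⟩)]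
  rw [h1, Nat.ModEq] at h
  set σ := φ z with hσ
  have hz2 : z * z = 1 := by rw [← pow_two, ← hz, pow_orderOf_eq_one]
  obtain ⟨hs, k, hk⟩ := CfsgLib.Perm.sign_of_sq_eq_one (σ := σ) (by
    rw [hσ, ← map_pow, pow_two, hz2, map_one])
  have hsgn := CfsgLib.Perm.hom_comm_trivial hnc (Equiv.Perm.sign.comp φ) z
  rw [MonoidHom.comp_apply, ← hσ, hs] at hsgn
  have hsupp : σ.support.card + Nat.card Fx = 15 := by
    rw [← hidx, index_eq_card, Nat.card_eq_fintype_card, Fintype.card_subtype,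
      Nat.card_eq_fintype_card, ← Finset.card_add_card_compl σ.support]
    congr 2
    ext w
    simp [hσ, hφ]
  have hne : σ.support.card ≠ 0 := fun e => by
    have : φ z = φ 1 := by
      rw [map_one]; exact Equiv.Perm.support_eq_empty_iff.1 (Finset.card_eq_zero.1 e)
    rw [hinj this, orderOf_one] at hz
    omega
  rcases Nat.even_or_odd k with ⟨j, hj⟩ | hj
  · omega
  · rw [hk, Nat.mul_div_cancel_left _ (by norm_num), hj.neg_one_pow] at hsgn
    exact absurd hsgn (by decide)

theorem signed_false [Fact (Nat.Prime 7)] (hG : Nat.card G = 5040) {P : Sylow 7 G} {a : G} {n : ℕ}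
    (F : Frame P a 6 1 n) : False := by
  have := Fintype.ofFinite (IrrCharacter G)
  obtain ⟨y, u, S, σ, k, hy, -, -, -, B⟩ := exists_signed F ⟨3, rfl⟩
  have hsq : ¬ 7 * 7 ∣ Nat.card G := by rw [hG]; norm_num
  -- the possible degrees and values
  let Q : IrrCharacter G → ℤ → ℤ → Prop := fun χ x z =>
    (σ χ * (charDegree (χ : G → ℂ) : ℤ) = 15 ∧ x = 0 ∧ z = 0 ∧ (σ χ * k χ = -1 ∨ σ χ * k χ = 3)) ∨
    ((4 : ℤ) ∣ σ χ * (charDegree (χ : G → ℂ) : ℤ) ∧
      σ χ * (charDegree (χ : G → ℂ) : ℤ) ≠ 15 ∧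
      (σ χ * k χ = 4 * (x + z) ∨ σ χ * k χ = -4 * (x + z)) ∧ 0 ≤ x ∧ 0 ≤ z ∧ x + z ≤ 1 ∧
      (σ χ * (charDegree (χ : G → ℂ) : ℤ) = 8 ∨ σ χ * (charDegree (χ : G → ℂ) : ℤ) = -20 →
        x + z = 0) ∧
      720 * (k χ * k χ) * σ χ = (320 * x - 240 * z) * (charDegree (χ : G → ℂ) : ℤ))
  have hdata : ∀ χ ∈ S, ∃ x z : ℤ, Q χ x z ∧
      ∃ s, σ χ * (charDegree (χ : G → ℂ) : ℤ) = s ∧
        (s = 8 ∨ s = 15 ∨ s = -20 ∨ s = 36 ∨ s = -48) := by
    intro χ hχ
    obtain ⟨f, hf, hkf⟩ := B.fixdim χ hχ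
    obtain ⟨hk1, hk2⟩ := abs_le.1 hkf
    have h4 := B.four χ hχ
    have hdvd : charDegree (χ : G → ℂ) ∣ 5040 := hG ▸ charDegree_dvd_card χ
    have hd1 := B.nontriv χ hχ
    have hle : charDegree (χ : G → ℂ) ≤ 70 := by
      have h : ∑ ψ : IrrCharacter G, charDegree (ψ : G → ℂ) ^ 2 = Nat.card G := by
        rw [← Nat.cast_inj (R := ℂ), Nat.cast_sum, ← sum_sq_degree]
        exact Finset.sum_congr rfl fun ψ _ => by rw [apply_one_eq_charDegree, Nat.cast_pow]
      have h2 := Finset.single_le_sum (f := fun ψ : IrrCharacter G => charDegree (ψ : G → ℂ) ^ 2)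
        (fun _ _ => Nat.zero_le _) (Finset.mem_univ χ)
      rw [h, hG] at h2
      by_contra hlt
      have : 71 ^ 2 ≤ charDegree (χ : G → ℂ) ^ 2 := Nat.pow_le_pow_left (by omega) 2
      omega
    simp only [Q]
    generalize charDegree (χ : G → ℂ) = D at hdvd hd1 hle hf h4 ⊢
    generalize k χ = K at hk1 hk2 h4 ⊢
    obtain ⟨j, hj⟩ := hdvd
    obtain ⟨i, hi⟩ := h4
    rcases B.sign χ hχ with e | e <;> rw [e] at hf ⊢
    · have hD : D = 8 ∨ D = 15 ∨ D = 36 := by interval_cases D <;> omega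
      rcases hD with rfl | rfl | rfl
      · obtain rfl : K = 0 := by omega
        exact ⟨0, 0, Or.inr (by norm_num), 8, by norm_num⟩
      · exact ⟨0, 0, Or.inl ⟨by norm_num, rfl, rfl, by omega⟩, 15, by norm_num⟩
      · obtain rfl | rfl | rfl : K = 0 ∨ K = 4 ∨ K = -4 := by omega
        exacts [⟨0, 0, Or.inr (by norm_num), 36, by norm_num⟩,
          ⟨1, 0, Or.inr (by norm_num), 36, by norm_num⟩,
          ⟨1, 0, Or.inr (by norm_num), 36, by norm_num⟩]
    · have hD : D = 20 ∨ D = 48 := by interval_cases D <;> omega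
      rcases hD with rfl | rfl
      · obtain rfl : K = 0 := by omega
        exact ⟨0, 0, Or.inr (by norm_num), -20, by norm_num⟩
      · obtain rfl | rfl | rfl : K = 0 ∨ K = 4 ∨ K = -4 := by omega
        exacts [⟨0, 0, Or.inr (by norm_num), -48, by norm_num⟩,
          ⟨0, 1, Or.inr (by norm_num), -48, by norm_num⟩,
          ⟨0, 1, Or.inr (by norm_num), -48, by norm_num⟩]
  choose! x z hQ s hs hs5 using hdata
  obtain ⟨M, hM⟩ := CfsgLib.ZStar.exists_isPModular (show Nat.Prime 7 by norm_num)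
  haveI := hM.2.1.isPrime
  have hspec : ∀ {r : ℕ}, r.Prime → ∃ χ ∈ S, ¬ r ∣ charDegree (χ : G → ℂ) := by
    intro r hr
    obtain ⟨χ, -, h1, hrd, -, hne⟩ :=
      exists_nonvanishing F.perf (show Nat.Prime 7 by norm_num) hsq hr hM hy
    refine ⟨χ, ?_, hrd⟩
    by_contra h
    exact hne (B.vanish χ (fun e => h1 (by rw [e, charDegree, trivChar_apply]; simp)) h)
  obtain ⟨A, hA, hA2⟩ := hspec Nat.prime_two
  obtain ⟨C, hC, hC3⟩ := hspec Nat.prime_three
  have hsA : s A = 15 := by
    have h := hs A hA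
    have h5 := hs5 A hA
    rcases B.sign A hA with e | e <;> rw [e] at h <;> omega
  have hsC : s C = 8 ∨ s C = -20 := by
    have h := hs C hC
    have h5 := hs5 C hC
    rcases B.sign C hC with e | e <;> rw [e] at h <;> omega
  -- exactly one degree `15`
  set T := S.filter (fun χ => s χ = 15) with hT
  set R := S.filter (fun χ => ¬ s χ = 15) with hR
  have hcardTR : T.card + R.card = 6 :=
    (Finset.card_filter_add_card_filter_not (s := S) (fun χ => s χ = 15)).trans B.card
  have hR4 : ∀ χ ∈ R, (4 : ℤ) ∣ s χ := fun χ hχ => by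
    obtain ⟨h, hne⟩ := Finset.mem_filter.1 hχ
    rcases hQ χ h with h' | h'
    · rw [hs χ h] at h'; exact absurd h'.1 hne
    · rw [hs χ h] at h'; exact h'.1
  have hsum : ∑ χ ∈ S, s χ = -1 := by
    rw [← B.sum_one]; exact Finset.sum_congr rfl fun χ hχ => (hs χ hχ).symm
  rw [← Finset.sum_filter_add_sum_filter_not S (fun χ => s χ = 15), ← hT, ← hR,
    Finset.sum_congr rfl (s₁ := T) (g := fun _ => (15 : ℤ))
      (fun χ hχ => (Finset.mem_filter.1 hχ).2), Finset.sum_const, nsmul_eq_mul] at hsum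
  obtain ⟨J, hJ⟩ : (4 : ℤ) ∣ ∑ χ ∈ R, s χ := Finset.dvd_sum hR4
  have hCR : C ∈ R := Finset.mem_filter.2 ⟨hC, by omega⟩
  have hRpos : 0 < R.card := Finset.card_pos.2 ⟨C, hCR⟩
  have hTone : T.card = 1 := by
    rcases Nat.lt_or_ge T.card 5 with h | h
    · omega
    · exfalso
      have hR1 : R.card = 1 := by omega
      obtain ⟨C', hC'⟩ := Finset.card_eq_one.1 hR1
      rw [hC', Finset.mem_singleton] at hCR
      rw [hC', Finset.sum_singleton, ← hCR] at hsum
      omega
  obtain ⟨A', hA'⟩ := Finset.card_eq_one.1 hTone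
  have hAA : A = A' := Finset.mem_singleton.1 (hA' ▸ Finset.mem_filter.2 ⟨hA, hsA⟩)
  subst hAA
  -- the value of the class sum
  obtain ⟨c, hc⟩ : ∃ c, c = Nat.card (centralizer ({u} : Set G)) := ⟨_, rfl⟩
  have hval : ∀ χ ∈ R, 720 * (((σ χ * (k χ * k χ) : ℤ) : ℂ) / (charDegree (χ : G → ℂ) : ℂ)) =
      ((320 * x χ - 240 * z χ : ℤ) : ℂ) := by
    intro χ hχ
    obtain ⟨h, hne⟩ := Finset.mem_filter.1 hχ
    rcases hQ χ h with h' | h'
    · rw [hs χ h] at h'; exact absurd h'.1 hne
    · rw [mul_div_assoc', div_eq_iff (Nat.cast_ne_zero.2 (CfsgLib.CharDegree.charDegree_pos χ).ne')]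
      have e := h'.2.2.2.2.2.2.2
      have e' : (((720 * (k χ * k χ) * σ χ : ℤ)) : ℂ) =
          (((320 * x χ - 240 * z χ) * (charDegree (χ : G → ℂ) : ℤ) : ℤ) : ℂ) := by rw [e]
      push_cast at e' ⊢
      linear_combination e'
  have hAd : charDegree (A : G → ℂ) = 15 ∧ σ A = 1 := by
    have h := hs A hA
    rcases B.sign A hA with e | e <;> rw [e] at h <;> refine ⟨?_, ?_⟩ <;> omega
  have heq : 720 + 48 * (k A * k A) + 320 * (∑ χ ∈ R, x χ) - 240 * (∑ χ ∈ R, z χ) =
      (c : ℤ) ^ 2 := by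
    have h := B.classEq
    rw [hG, ← hc, ← Finset.sum_filter_add_sum_filter_not S (fun χ => s χ = 15), ← hT, ← hR, hA',
      Finset.sum_singleton, hAd.1, hAd.2] at h
    have h' : ((720 + 48 * (k A * k A) + (∑ χ ∈ R, (320 * x χ - 240 * z χ)) : ℤ) : ℂ) =
        (((c : ℤ) ^ 2 : ℤ) : ℂ) := by
      rw [Int.cast_add, Int.cast_sum, Finset.sum_congr rfl (fun χ hχ => (hval χ hχ).symm),
        ← Finset.mul_sum]
      push_cast at h ⊢
      linear_combination (1 / 7 : ℂ) * h
    have h'' := (Int.cast_inj (α := ℂ)).1 h'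
    rw [Finset.sum_sub_distrib, ← Finset.mul_sum, ← Finset.mul_sum] at h''
    linarith
  -- parity of the number of nonzero values
  have hw := B.sum_u
  rw [← Finset.sum_filter_add_sum_filter_not S (fun χ => s χ = 15), ← hT, ← hR, hA',
    Finset.sum_singleton, hAd.2, one_mul] at hw
  have hkA : k A = -1 ∨ k A = 3 := by
    rcases hQ A hA with h | h
    · simpa [hAd.2] using h.2.2.2
    · rw [hs A hA] at h; exact absurd hsA h.2.1
  have hR' : ∀ χ ∈ R, 0 ≤ x χ ∧ 0 ≤ z χ ∧ x χ + z χ ≤ 1 ∧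
      (8 : ℤ) ∣ σ χ * k χ - 4 * (x χ + z χ) := by
    intro χ hχ
    obtain ⟨h, hne⟩ := Finset.mem_filter.1 hχ
    rcases hQ χ h with h' | ⟨-, -, hk', h0, h0', h01, -, -⟩
    · rw [hs χ h] at h'; exact absurd h'.1 hne
    · exact ⟨h0, h0', h01, by omega⟩
  have hpar : (8 : ℤ) ∣ ∑ χ ∈ R, (σ χ * k χ - 4 * (x χ + z χ)) :=
    Finset.dvd_sum fun χ hχ => (hR' χ hχ).2.2.2
  rw [Finset.sum_sub_distrib, ← Finset.mul_sum, Finset.sum_add_distrib] at hpar
  have hCxz : x C + z C = 0 := by
    rcases hQ C hC with h | ⟨-, -, -, -, -, -, h, -⟩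
    · rw [hs C hC] at h; omega
    · exact h (by rw [hs C hC]; exact hsC)
  have hx0 : 0 ≤ ∑ χ ∈ R, x χ := Finset.sum_nonneg fun χ hχ => (hR' χ hχ).1
  have hz0 : 0 ≤ ∑ χ ∈ R, z χ := Finset.sum_nonneg fun χ hχ => (hR' χ hχ).2.1
  have hle4 : ∑ χ ∈ R, x χ + ∑ χ ∈ R, z χ ≤ 4 := by
    rw [← Finset.sum_add_distrib, ← Finset.add_sum_erase _ _ hCR, hCxz, zero_add]
    refine (Finset.sum_le_card_nsmul _ _ 1
      (fun χ hχ => (hR' χ (Finset.mem_of_mem_erase hχ)).2.2.1)).trans ?_
    rw [Finset.card_erase_of_mem hCR, nsmul_eq_mul, mul_one]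
    omega
  generalize ∑ χ ∈ R, x χ = X at *
  generalize ∑ χ ∈ R, z χ = Z at *
  generalize ∑ χ ∈ R, σ χ * k χ = W at *
  have hXu : X ≤ 4 := by omega
  have hZu : Z ≤ 4 := by omega
  have hc0 : (0 : ℤ) ≤ c := Int.natCast_nonneg c
  generalize (c : ℤ) = C' at heq hc0
  have hno : ∀ r N : ℤ, 0 ≤ r → r ^ 2 < N → N < (r + 1) ^ 2 → C' ^ 2 ≠ N := by
    intro r N hr h1 h2 e
    rcases le_or_gt C' r with h | h <;> nlinarith
  have hneg : ∀ N : ℤ, N < 0 → C' ^ 2 ≠ N := fun N hN e => by nlinarith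
  rcases hkA with e | e <;> rw [e] at heq hw <;> interval_cases X <;> interval_cases Z <;>
    first
    | omega
    | (refine hno 16 _ ?_ ?_ ?_ heq.symm <;> norm_num; done)
    | (refine hno 19 _ ?_ ?_ ?_ heq.symm <;> norm_num; done)
    | (refine hno 20 _ ?_ ?_ ?_ heq.symm <;> norm_num; done)
    | (refine hno 27 _ ?_ ?_ ?_ heq.symm <;> norm_num; done)
    | (refine hno 29 _ ?_ ?_ ?_ heq.symm <;> norm_num; done)
    | (refine hno 30 _ ?_ ?_ ?_ heq.symm <;> norm_num; done)
    | (refine hno 31 _ ?_ ?_ ?_ heq.symm <;> norm_num; done)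
    | (refine hno 37 _ ?_ ?_ ?_ heq.symm <;> norm_num; done)
    | (refine hno 38 _ ?_ ?_ ?_ heq.symm <;> norm_num; done)
    | (refine hno 39 _ ?_ ?_ ?_ heq.symm <;> norm_num; done)
    | (refine hno 45 _ ?_ ?_ ?_ heq.symm <;> norm_num; done)
    | (refine hneg _ ?_ heq.symm <;> norm_num; done)

end Simple

end CfsgLib.Perm.ThreePrimeOrder
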