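import Cfsg.Agent.Lib.Perm.ThreePrimeOrder.Average
import Cfsg.Agent.Lib.Perm.CharAverage
import Cfsg.Agent.Lib.Perm.FewSylowTable
import Cfsg.Agent.Lib.Perm.SelfCentDegree
import Cfsg.Agent.Lib.Blocks.Principal
import Cfsg.Agent.Lib.Blocks.Union
import Cfsg.Agent.Lib.Blocks.PrimeSylow.Setup

/-!
# Principal block values at an element of order `p`, `p ^ 2 ∤ |G|`

* `exists_nonvanishing`: a nontrivial principal block character of degree prime to `p q`.
* `apply_pow_mul_eq`: principal block characters are constant on `y V`.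
* `four_dvd_degree_sub`: degree and value at an involution of a perfect group agree mod four.
-/

set_option autoImplicit false

namespace CfsgLib.Perm.ThreePrimeOrder

open Cfsg CfsgLib.Char CfsgLib.Blocks Subgroup
open scoped Classical ComplexConjugate

variable {G : Type*} [Group G] [Fintype G] {p : ℕ}

/-- A character of full `l`-part vanishes at the `l`-singular elements. -/
theorem vanish_of_full {l : ℕ} (hl : l.Prime) {χ : IrrCharacter G}
    (hd : ¬ l ∣ Nat.card G / charDegree (χ : G → ℂ)) {g : G} (hg : l ∣ orderOf g) :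
    (χ : G → ℂ) g = 0 := by
  obtain ⟨M, hM⟩ := CfsgLib.ZStar.exists_isPModular hl
  haveI := hM.2.1.isPrime
  exact apply_eq_zero_of_singleton hM (blockOf_eq_singleton hM χ hd) hg

/-- A principal block character of degree prime to `p q` not vanishing at `y`. -/
theorem exists_nonvanishing (hperf : _root_.commutator G = ⊤) (hp : p.Prime)
    (hsq : ¬ p * p ∣ Nat.card G) {q : ℕ} (hq : q.Prime) {M : Ideal AlgInt} [M.IsPrime]
    (hM : IsPModular p M) {y : G} (hy : orderOf y = p) :
    ∃ χ : IrrCharacter G, χ ∈ principalBlock M G ∧ charDegree (χ : G → ℂ) ≠ 1 ∧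
      ¬ q ∣ charDegree (χ : G → ℂ) ∧ ¬ p ∣ charDegree (χ : G → ℂ) ∧ (χ : G → ℂ) y ≠ 0 := by
  have := Fintype.ofFinite (IrrCharacter G)
  have h := sum_block_regular_singular hM (isPBlock_principalBlock (G := G)) (x := 1)
    (by rw [orderOf_one]; exact hp.not_dvd_one) (y := y) (by rw [hy])
  rw [finsum_mem_eq_finite_toFinset_sum _ (Set.toFinite _),
    ← Finset.add_sum_erase _ _ ((Set.Finite.mem_toFinset _).2 trivChar_mem_principalBlock)] at h
  simp only [trivChar_apply, one_mul] at h
  by_contra! hno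
  have key : ∀ χ ∈ (Set.toFinite (principalBlock M G)).toFinset.erase (trivChar G),
      IsIntegral ℤ ((χ : G → ℂ) 1 * (χ : G → ℂ) y / (q : ℂ)) := by
    intro χ hχ
    rw [Finset.mem_erase, Set.Finite.mem_toFinset] at hχ
    by_cases hy0 : (χ : G → ℂ) y = 0
    · simp [hy0, isIntegral_zero]
    by_cases hqd : q ∣ charDegree (χ : G → ℂ)
    · obtain ⟨k, hk⟩ := hqd
      rw [apply_one_eq_charDegree, hk, Nat.cast_mul, mul_assoc,
        mul_div_cancel_left₀ _ (Nat.cast_ne_zero.2 hq.ne_zero)]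
      exact (isIntegral_algebraMap (R := ℤ) (x := (k : ℤ))).mul
        (IsChar.isIntegral (IsIrr.isCharacter χ.2) _)
    · exfalso
      refine hy0 (hno χ hχ.2 (fun h1 => hχ.1 (FewSylow.eq_trivChar hperf χ h1)) hqd fun hpd => ?_)
      refine hy0 (vanish_of_full hp (fun hd => hsq ?_) (by rw [hy]))
      rw [← Nat.mul_div_cancel' (charDegree_dvd_card χ)]
      exact mul_dvd_mul hpd hd
  have hone : IsIntegral ℤ (((1 : ℕ) : ℂ) / (q : ℂ)) := by
    have h2 := (IsIntegral.sum _ key).neg
    rw [← Finset.sum_div, ← neg_div, eq_neg_of_add_eq_zero_right h, neg_neg] at h2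
    rwa [Nat.cast_one]
  exact hq.not_dvd_one (CfsgLib.CharIntegral.dvd_of_isIntegral_div hq.ne_zero hone)

/-- Principal block characters are constant on the translates of `y ^ i` by `p'`-elements
commuting with `y`. -/
theorem apply_pow_mul_eq (hp : p.Prime) (hsq : ¬ p * p ∣ Nat.card G) {M : Ideal AlgInt} [M.IsPrime]
    (hM : IsPModular p M) {χ : IrrCharacter G} (hB : χ ∈ principalBlock M G) {y v : G}
    (hy : orderOf y = p) (hv : v ∈ centralizer ({y} : Set G)) (hvp : ¬ p ∣ orderOf v) {i : ℕ}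
    (hi : i < p) (hi0 : i ≠ 0) : (χ : G → ℂ) (y ^ i * v) = (χ : G → ℂ) (y ^ i) := by
  haveI := Fact.mk hp
  have hcard : Nat.card (zpowers y) = p := by rw [Nat.card_zpowers, hy]
  have hidx : ¬ p ∣ (zpowers y).index := fun h => hsq (by
    rw [← card_mul_index (zpowers y), hcard]; exact mul_dvd_mul_left p h)
  obtain ⟨V, hV⟩ := CfsgLib.Blocks.PrimeSylow.exists_setup hcard hidx
  have hcent : ∀ c : G, c ∈ centralizer (zpowers y : Set G) ↔ c ∈ centralizer ({y} : Set G) := by
    intro c
    rw [zpowers_eq_closure, centralizer_closure]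
  have ho : orderOf (y ^ i) = p := by
    rw [Nat.Coprime.orderOf_pow]
    · exact hy
    · rw [hy]
      exact hp.coprime_iff_not_dvd.2 fun hd =>
        absurd (Nat.le_of_dvd (Nat.pos_of_ne_zero hi0) hd) (not_le.2 hi)
  have hz : zpowers (y ^ i) = zpowers y :=
    eq_of_le_of_card_ge (zpowers_le.2 (pow_mem (mem_zpowers y) i))
      (by rw [Nat.card_zpowers, Nat.card_zpowers, ho, hy])
  have hCeq : centralizer ({y ^ i} : Set G) = centralizer ({y} : Set G) := by
    rw [← centralizer_closure, ← zpowers_eq_closure, hz, zpowers_eq_closure, centralizer_closure]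
  haveI : (V.subgroupOf (centralizer ({y ^ i} : Set G))).Normal := ⟨fun w hw c => by
    rw [mem_subgroupOf] at hw ⊢
    obtain ⟨hwC, hwp⟩ := (hV.mem_V _).1 hw
    refine (hV.mem_V _).2 ⟨?_, ?_⟩
    · have hc : (c : G) ∈ centralizer (zpowers y : Set G) := by
        rw [hcent, ← hCeq]; exact c.2
      simp only [coe_mul, coe_inv]
      exact mul_mem (mul_mem hc hwC) (inv_mem hc)
    · simp only [coe_mul, coe_inv]
      rwa [show (c : G) * w * (c : G)⁻¹ = MulAut.conj (c : G) w from rfl, MulEquiv.orderOf_eq]⟩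
  refine apply_mul_eq_of_mem_principalBlock hM ⟨1, by rw [ho, pow_one]⟩ hB
    (N := V.subgroupOf (centralizer ({y ^ i} : Set G))) ?_ (v := ⟨v, hCeq ▸ hv⟩) ?_
  · refine not_dvd_card_of_forall_ne fun w hw ho' => ?_
    have hw' := ((hV.mem_V _).1 (mem_subgroupOf.1 hw)).2
    rw [Subgroup.orderOf_coe, ho'] at hw'
    exact hw' dvd_rfl
  · rw [mem_subgroupOf]
    exact (hV.mem_V v).2 ⟨(hcent v).2 hv, hvp⟩

/-- A nonlinear character of a simple group is faithful. -/
theorem eq_one_of_apply_eq [IsSimpleGroup G] {χ : IrrCharacter G} (hχ : charDegree (χ : G → ℂ) ≠ 1)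
    {v : G} (h : (χ : G → ℂ) v = (χ : G → ℂ) 1) : v = 1 := by
  rcases (CfsgLib.CharDegree.kerSubgroup_normal χ).eq_bot_or_eq_top with h' | h'
  · exact (CfsgLib.CharDegree.kerSubgroup_eq_bot_iff.1 h') v h
  · exfalso
    have hne : χ ≠ trivChar G := fun e => hχ (by rw [e, charDegree, trivChar_apply]; simp)
    have hall : ∀ g : G, (χ : G → ℂ) g = (χ : G → ℂ) 1 := fun g =>
      CfsgLib.CharDegree.mem_kerSubgroup.1 (h' ▸ Subgroup.mem_top g)
    have hsum := classInner_irr_of_ne (χ := χ) (ψ := trivChar G) hne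
    simp only [Cfsg.classInner, trivChar_apply, map_one, mul_one, hall, Finset.sum_const,
      Finset.card_univ, nsmul_eq_mul] at hsum
    rw [mul_eq_zero, mul_eq_zero, inv_eq_zero] at hsum
    rcases hsum with e | e | e
    · exact absurd e (Nat.cast_ne_zero.2 Nat.card_pos.ne')
    · exact absurd e (Nat.cast_ne_zero.2 Fintype.card_pos.ne')
    · exact absurd e (IsIrr.apply_one_ne_zero χ.2)

omit [Fintype G] in
/-- In a perfect group an involution has an even number of eigenvalues minus one. -/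
theorem four_dvd_degree_sub [Finite G] (hperf : _root_.commutator G = ⊤) (χ : IrrCharacter G)
    {u : G} (hu : u * u = 1) {k : ℤ} (hk : (χ : G → ℂ) u = k) :
    (4 : ℤ) ∣ (charDegree (χ : G → ℂ) : ℤ) - k := by
  obtain ⟨n, ρ, -, hρ, hn⟩ := CfsgLib.CharDegree.exists_rep χ
  obtain ⟨b, μ, hb, hord, -, hsum, -⟩ := CfsgLib.CharIntegral.exists_eigenbasis_apply ρ u
  have hsq : ∀ i, μ i = 1 ∨ μ i = -1 := fun i => by
    obtain ⟨c, hc⟩ : orderOf u ∣ 2 := orderOf_dvd_of_pow_eq_one (by rw [pow_two, hu])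
    exact sq_eq_one_iff.1 (by rw [hc, pow_mul, hord, one_pow])
  have hdet : LinearMap.det (ρ u) = 1 := by
    let f : G →* ℂˣ := (MonoidHom.toHomUnits ((LinearMap.det).comp ρ))
    have hle : _root_.commutator G ≤ f.ker := Abelianization.commutator_subset_ker f
    rw [hperf, top_le_iff] at hle
    have h1 : f u = 1 := by
      rw [← MonoidHom.mem_ker, hle]; exact mem_top u
    have := congrArg Units.val h1
    simpa [f] using this
  have hmat : LinearMap.toMatrix b b (ρ u) = Matrix.diagonal μ := by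
    ext i j
    rw [LinearMap.toMatrix_apply, hb, map_smul, Module.Basis.repr_self, Matrix.diagonal_apply]
    rcases eq_or_ne i j with rfl | h
    · simp
    · simp [h, h.symm]
  rw [← LinearMap.det_toMatrix b, hmat, Matrix.det_diagonal] at hdet
  set S := Finset.univ.filter fun i => μ i = -1 with hS
  have hprod : ∏ i, μ i = (-1) ^ S.card := by
    rw [← Finset.prod_filter_mul_prod_filter_not Finset.univ (fun i => μ i = -1), ← hS,
      Finset.prod_eq_pow_card (fun i hi => (Finset.mem_filter.1 hi).2),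
      Finset.prod_eq_one fun i hi => (hsq i).resolve_right (Finset.mem_filter.1 hi).2, mul_one]
  have heven : Even S.card := by
    rw [hdet] at hprod
    exact neg_one_pow_eq_one_iff_even (R := ℂ) (by norm_num) |>.1 hprod.symm
  have htr : (χ : G → ℂ) u = (n : ℂ) - 2 * S.card := by
    rw [← hρ, hsum]
    have h1 : ∀ i, μ i = 1 - 2 * (if μ i = -1 then 1 else 0) := fun i => by
      rcases hsq i with h | h <;> rw [h] <;> norm_num
    rw [Finset.sum_congr rfl (fun i _ => h1 i), Finset.sum_sub_distrib, ← Finset.mul_sum,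
      Finset.sum_boole, Finset.sum_const, Finset.card_univ, Fintype.card_fin, nsmul_one, hS,
      show ((Module.finrank ℂ (Fin n → ℂ) : ℕ) : ℂ) = (n : ℂ) by rw [Module.finrank_fin_fun]]
  obtain ⟨j, hj⟩ := heven
  refine ⟨j, ?_⟩
  have h2 : ((k : ℤ) : ℂ) = (((n : ℤ) - 2 * (S.card : ℤ) : ℤ) : ℂ) := by
    rw [← hk, htr]; push_cast; ring
  have h3 : k = (n : ℤ) - 2 * (S.card : ℤ) := by exact_mod_cast h2
  rw [← hn, h3, hj]
  push_cast
  ring

/-- Degree and value at an involution commuting with `y` agree modulo `2 p`. -/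
theorem two_p_dvd_degree_sub (hp : p.Prime) (hp2 : p ≠ 2) {χ : IrrCharacter G} {y u : G}
    (hy : orderOf y = p) (hu : orderOf u = 2) (huy : Commute y u) {k : ℤ}
    (hk : (χ : G → ℂ) u = k)
    (hval : ∀ i, i < p → i ≠ 0 → (χ : G → ℂ) (y ^ i * u) = (χ : G → ℂ) (y ^ i)) :
    (2 * p : ℤ) ∣ (charDegree (χ : G → ℂ) : ℤ) - k := by
  have hord : orderOf (y * u) = p * 2 := by
    rw [huy.orderOf_mul_eq_mul_orderOf_of_coprime
      (by rw [hy, hu]; exact (Nat.coprime_primes hp Nat.prime_two).2 hp2), hy, hu]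
  have hu2 : u * u = 1 := by rw [← pow_two, ← hu, pow_orderOf_eq_one]
  have hzsum : ∀ w : G, ∃ d : ℕ, ∑ i ∈ Finset.range (orderOf w), (χ : G → ℂ) (w ^ i) =
      (orderOf w : ℂ) * d := by
    intro w
    haveI := Fintype.ofFinite (zpowers w)
    obtain ⟨d, hd⟩ := CharAverage.exists_sum_eq (zpowers w) (IsIrr.isCharacter χ.2)
    refine ⟨d, ?_⟩
    rw [Nat.card_zpowers] at hd
    rw [← hd, ← Equiv.sum_comp (finEquivZPowers (isOfFinOrder_of_finite w))]
    rw [← Fin.sum_univ_eq_sum_range (fun i => (χ : G → ℂ) (w ^ i))]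
    exact Finset.sum_congr rfl fun i _ => by rw [finEquivZPowers_apply]
  obtain ⟨d, hd⟩ := hzsum y
  obtain ⟨d', hd'⟩ := hzsum (y * u)
  rw [hy] at hd
  rw [hord] at hd'
  have hp' : orderOf y = p := hy
  -- split the powers of `y * u` by parity
  let c : ℕ → ℕ := fun i => i % 2
  have hsplit : ∑ i ∈ Finset.range (p * 2), (χ : G → ℂ) ((y * u) ^ i) =
      ∑ j ∈ Finset.range p, ((χ : G → ℂ) (y ^ j) + (χ : G → ℂ) (y ^ j * u)) := by
    have e : ∀ i, (y * u) ^ i = y ^ (i % p) * u ^ (i % 2) := fun i => by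
      rw [huy.mul_pow, ← pow_mod_orderOf y, hy, ← pow_mod_orderOf u i, hu]
    have hcrt : ∑ i ∈ Finset.range (p * 2), (χ : G → ℂ) ((y * u) ^ i) =
        ∑ q ∈ Finset.range p ×ˢ Finset.range 2, (χ : G → ℂ) (y ^ q.1 * u ^ q.2) := by
      have hcop : p.Coprime 2 := (Nat.coprime_primes hp Nat.prime_two).2 hp2
      refine Finset.sum_bij (fun i _ => (i % p, i % 2)) ?_ ?_ ?_ ?_
      · intro i _
        exact Finset.mem_product.2 ⟨Finset.mem_range.2 (Nat.mod_lt _ hp.pos),
          Finset.mem_range.2 (Nat.mod_lt _ two_pos)⟩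
      · intro i hi i' hi' e'
        simp only [Prod.mk.injEq] at e'
        have h1 := (Nat.modEq_and_modEq_iff_modEq_mul hcop).1 ⟨e'.1, e'.2⟩
        rw [Finset.mem_range] at hi hi'
        exact h1.eq_of_lt_of_lt hi hi'
      · intro q hq
        simp only [Finset.mem_product, Finset.mem_range] at hq
        obtain ⟨w, hw1, hw2⟩ := Nat.chineseRemainder hcop q.1 q.2
        refine ⟨w % (p * 2), Finset.mem_range.2 (Nat.mod_lt _ (Nat.mul_pos hp.pos two_pos)), ?_⟩
        refine Prod.ext ?_ ?_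
        · show w % (p * 2) % p = q.1
          rw [Nat.mod_mul_right_mod]
          exact Eq.trans hw1 (Nat.mod_eq_of_lt hq.1)
        · show w % (p * 2) % 2 = q.2
          rw [Nat.mod_mul_left_mod]
          exact Eq.trans hw2 (Nat.mod_eq_of_lt hq.2)
      · intro i _
        rw [e]
    rw [hcrt, Finset.sum_product]
    refine Finset.sum_congr rfl fun j _ => ?_
    rw [Finset.sum_range_succ, Finset.sum_range_one, pow_zero, mul_one, pow_one]
  rw [hsplit, ← Finset.add_sum_erase _ _ (Finset.mem_range.2 hp.pos), pow_zero, one_mul] at hd'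
  rw [← Finset.add_sum_erase _ _ (Finset.mem_range.2 hp.pos), pow_zero] at hd
  rw [Finset.sum_congr rfl (fun j hj => by
    rw [hval j (Finset.mem_range.1 (Finset.mem_of_mem_erase hj)) (Finset.ne_of_mem_erase hj)])] at hd'
  rw [Finset.sum_add_distrib, hk] at hd'
  rw [apply_one_eq_charDegree] at hd hd'
  refine ⟨(d : ℤ) - d', ?_⟩
  have : (((charDegree (χ : G → ℂ) : ℤ) - k : ℤ) : ℂ) = ((2 * (p : ℤ) * ((d : ℤ) - d') : ℤ) : ℂ) := by
    push_cast at hd hd' ⊢
    linear_combination 2 * hd - hd'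
  exact_mod_cast this

end CfsgLib.Perm.ThreePrimeOrder
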