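import Cfsg.Agent.Lib.Perm.ThreePrimeOrder.Basic
import Cfsg.Agent.Lib.Perm.FewSylowRecog
import Cfsg.Agent.Lib.Perm.SelfCentDegree
import Cfsg.Agent.Lib.CharDegree.Counting

/-!
# Simple groups of order `p r q ^ b`: few Sylow subgroups or a large prime

`dichotomy`: with `r < p`, either there are few Sylow `p`-subgroups or `|G| < p ^ 3`.
-/

set_option autoImplicit false

namespace CfsgLib.Perm.ThreePrimeOrder

open Cfsg CfsgLib.Char CfsgLib.Blocks Subgroup CfsgLib.Perm.FewSylow
open scoped Classical ComplexConjugate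

variable {G : Type*} [Group G]

/-- The elements conjugating `z` to `c` are as many as the centralizer of `z`. -/
theorem card_conj_fibre {z c : G} (h : IsConj z c) :
    Nat.card {g : G // g * z * g⁻¹ = c} = Nat.card (centralizer ({z} : Set G)) := by
  obtain ⟨k, hk⟩ := isConj_iff.1 h
  refine Nat.card_congr
    { toFun := fun g => ⟨k⁻¹ * g.1, mem_centralizer_singleton_iff.2 ?_⟩
      invFun := fun w => ⟨k * w.1, ?_⟩
      left_inv := fun g => by simp
      right_inv := fun w => by simp }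
  · calc k⁻¹ * g.1 * z = k⁻¹ * (g.1 * z * g.1⁻¹) * g.1 := by group
      _ = k⁻¹ * (k * z * k⁻¹) * g.1 := by rw [g.2, hk]
      _ = z * (k⁻¹ * g.1) := by group
  · have hw := mem_centralizer_singleton_iff.1 w.2
    calc k * (w : G) * z * (k * w)⁻¹ = k * ((w : G) * z * (w : G)⁻¹) * k⁻¹ := by group
      _ = k * (z * w * (w : G)⁻¹) * k⁻¹ := by rw [hw]
      _ = c := by rw [mul_inv_cancel_right, hk]

variable [Fintype G]

/-- Solutions of `z^g z^h y = 1` for an element `y` of odd order with dihedral normalizer part. -/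
theorem count_solutions {p : ℕ} (hp2 : Odd p) {z u y : G} (hy : orderOf y = p)
    (hz : z * z = 1) (hu : u * u = 1) (hinv : u * y * u⁻¹ = y⁻¹)
    (hC : centralizer ({y} : Set G) = zpowers y) :
    (¬ IsConj z u → Nat.card {k : G × G // k.1 * z * k.1⁻¹ * (k.2 * z * k.2⁻¹ * y) = 1} = 0) ∧
    (IsConj z u → Nat.card {k : G × G // k.1 * z * k.1⁻¹ * (k.2 * z * k.2⁻¹ * y) = 1} =
      p * Nat.card (centralizer ({z} : Set G)) ^ 2) := by
  have hu' : u⁻¹ = u := inv_eq_of_mul_eq_one_right hu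
  have hT : ∀ g : G, g * z * g⁻¹ * (g * z * g⁻¹) = 1 := fun g => by
    rw [show g * z * g⁻¹ * (g * z * g⁻¹) = g * (z * z) * g⁻¹ by group, hz, mul_one, mul_inv_cancel]
  have hflip : ∀ w ∈ zpowers y, u * w * u⁻¹ = w⁻¹ := by
    rintro _ ⟨i, rfl⟩
    simp only
    rw [← conj_zpow, hinv, inv_zpow]
  have hconj : ∀ x ∈ zpowers y, IsConj u (x * u) := by
    intro x hx
    obtain ⟨k, hk⟩ := hp2
    have hxp : x ^ p = 1 := by
      have := orderOf_dvd_natCard (⟨x, hx⟩ : zpowers y)
      rw [← orderOf_submonoid, Nat.card_zpowers, hy] at this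
      exact orderOf_dvd_iff_pow_eq_one.1 this
    refine isConj_iff.2 ⟨x ^ (k + 1), ?_⟩
    have hw := hflip _ (pow_mem hx (k + 1))
    have h2 : x ^ (k + 1) * x ^ (k + 1) = x := by
      rw [← pow_add, show k + 1 + (k + 1) = p + 1 by omega, pow_succ, hxp, one_mul]
    calc x ^ (k + 1) * u * (x ^ (k + 1))⁻¹
        = x ^ (k + 1) * (u * (x ^ (k + 1))⁻¹ * u⁻¹) * u := by group
      _ = x ^ (k + 1) * (u * x ^ (k + 1) * u⁻¹)⁻¹ * u := by group
      _ = x * u := by rw [hw, inv_inv, h2]
  have hsol : ∀ g h : G, g * z * g⁻¹ * (h * z * h⁻¹ * y) = 1 →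
      (g * z * g⁻¹ * u ∈ zpowers y) ∧ h * z * h⁻¹ = g * z * g⁻¹ * y⁻¹ := by
    intro g h e
    have hg := hT g
    set a := g * z * g⁻¹ with ha
    have hc : h * z * h⁻¹ = a * y⁻¹ := by
      calc h * z * h⁻¹ = a * a * (h * z * h⁻¹ * y) * y⁻¹ := by rw [hg]; group
        _ = a * (a * (h * z * h⁻¹ * y)) * y⁻¹ := by group
        _ = a * y⁻¹ := by rw [e, mul_one]
    refine ⟨?_, hc⟩
    have hsq := hT h
    rw [hc] at hsq
    have hai : a⁻¹ = a := inv_eq_of_mul_eq_one_right hg
    have hy' : a * y * a⁻¹ = y⁻¹ := by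
      rw [hai]
      calc a * y * a = (a⁻¹ * y⁻¹ * a⁻¹)⁻¹ := by group
        _ = (a * y⁻¹ * a)⁻¹ := by rw [hai]
        _ = ((a * y⁻¹ * (a * y⁻¹)) * y)⁻¹ := by group
        _ = y⁻¹ := by rw [hsq, one_mul]
    rw [← hC, mem_centralizer_singleton_iff]
    calc a * u * y = a * (u * y * u⁻¹) * u := by group
      _ = a * y⁻¹ * u := by rw [hinv]
      _ = (a * y * a⁻¹)⁻¹ * a * u := by group
      _ = y * (a * u) := by rw [hy', inv_inv, mul_assoc]
  refine ⟨fun hnc => Nat.card_eq_zero.2 (Or.inl ⟨fun ⟨⟨g, h⟩, e⟩ => hnc ?_⟩), fun hc => ?_⟩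
  · obtain ⟨h1, -⟩ := hsol g h e
    have h2 := hconj _ h1
    rw [mul_assoc, hu, mul_one] at h2
    exact (isConj_iff.2 ⟨g, rfl⟩ : IsConj z (g * z * g⁻¹)).trans h2.symm
  · let f : (Σ x : zpowers y, {g : G // g * z * g⁻¹ = x * u} × {h : G // h * z * h⁻¹ = x * u * y⁻¹}) →
        {k : G × G // k.1 * z * k.1⁻¹ * (k.2 * z * k.2⁻¹ * y) = 1} := fun w =>
      ⟨(w.2.1.1, w.2.2.1), by
        rw [w.2.1.2, w.2.2.2, inv_mul_cancel_right]
        have := hT w.2.1.1
        rwa [w.2.1.2] at this⟩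
    have hf : Function.Bijective f := by
      constructor
      · rintro ⟨x, ⟨g, hg⟩, ⟨h, hh⟩⟩ ⟨x', ⟨g', hg'⟩, ⟨h', hh'⟩⟩ e
        simp only [f, Subtype.mk.injEq, Prod.mk.injEq] at e
        obtain ⟨rfl, rfl⟩ := e
        obtain rfl : x = x' := Subtype.ext (mul_right_cancel (hg.symm.trans hg'))
        rfl
      · rintro ⟨⟨g, h⟩, e⟩
        obtain ⟨h1, h2⟩ := hsol g h e
        have h3 : g * z * g⁻¹ * u * u = g * z * g⁻¹ := by rw [mul_assoc, hu, mul_one]
        exact ⟨⟨⟨_, h1⟩, ⟨g, h3.symm⟩, ⟨h, h2.trans (by rw [h3])⟩⟩, rfl⟩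
    have hfib : ∀ x : zpowers y, Nat.card ({g : G // g * z * g⁻¹ = x * u} ×
        {h : G // h * z * h⁻¹ = x * u * y⁻¹}) = Nat.card (centralizer ({z} : Set G)) ^ 2 := by
      intro x
      have hx2 : (x : G) * u * y⁻¹ = ((x : G) * y) * u := by
        calc (x : G) * u * y⁻¹ = x * (u * y * u⁻¹)⁻¹ * u := by group
          _ = x * y * u := by rw [hinv, inv_inv]
      rw [Nat.card_prod, card_conj_fibre (hc.trans (hconj _ x.2)), hx2,
        card_conj_fibre (hc.trans (hconj _ (mul_mem x.2 (mem_zpowers y)))), pow_two]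
    rw [← Nat.card_eq_of_bijective f hf, Nat.card_sigma, Finset.sum_congr rfl (fun x _ => hfib x),
      Finset.sum_const, Finset.card_univ, ← Nat.card_eq_fintype_card, Nat.card_zpowers, hy,
      smul_eq_mul]

variable [IsSimpleGroup G]

set_option maxHeartbeats 1600000 in
/-- The case `e + r = p` with `e` a multiple of four. -/
theorem q_pow_eq_of_four_dvd {p r b : ℕ} (H : Hyp G p r 2 b) [Fact p.Prime] {P : Sylow p G} {a : G}
    {e t n m : ℕ} (F : Frame P a e t n) (her : e + r = p) (hem : e = 2 ^ m) (hm : 2 ≤ m) :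
    2 ^ b + 1 = p := by
  have := Fintype.ofFinite (IrrCharacter G)
  haveI := Fact.mk Nat.prime_two
  have hp3 : 3 ≤ p := F.p_three
  have hodd : Odd p := H.hp.odd_of_ne_two (by omega)
  have hrodd : Odd r := H.hr.odd_of_ne_two (by have := H.hr3; omega)
  obtain ⟨k4, hk4⟩ : 4 ∣ e := by rw [hem]; exact pow_dvd_pow 2 hm
  have het := F.et
  -- not two or fewer exceptional characters
  have ht3 : 3 ≤ t := by
    rcases Nat.lt_or_ge t 3 with h | h
    · exfalso
      interval_cases t
      · omega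
      · have := H.hr3; omega
      · -- `p` and `r` would be consecutive Fermat primes
        have hpm : p = 2 ^ (m + 1) + 1 := by rw [pow_succ, ← hem]; omega
        have hrm : r = 2 ^ m + 1 := by rw [← hem]; omega
        obtain ⟨k, hk⟩ := Nat.pow_of_pow_add_prime (a := 2) (n := m) (by norm_num) (by omega)
          (hrm ▸ H.hr)
        obtain ⟨l, hl⟩ := Nat.pow_of_pow_add_prime (a := 2) (n := m + 1) (by norm_num) (by omega)
          (hpm ▸ H.hp)
        rcases k with _ | k
        · rw [pow_zero] at hk; omega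
        rcases l with _ | l
        · rw [pow_zero] at hl; omega
        rw [pow_succ] at hk hl
        omega
    · exact h
  obtain ⟨y, hy⟩ := exists_prime_orderOf_dvd_card' (G := (P : Subgroup G)) p (by rw [F.card])
  have hyG : orderOf (y : G) = p := by rw [Subgroup.orderOf_coe, hy]
  have hy1 : (y : G) ≠ 1 := fun e0 => by rw [e0, orderOf_one] at hyG; omega
  have hystar : (y : G) ∈ star (P : Subgroup G) := mem_star.2 ⟨hy1, y.2⟩
  have hPy : (P : Subgroup G) = zpowers (y : G) :=
    (eq_of_le_of_card_ge (zpowers_le.2 y.2) (by rw [F.card, Nat.card_zpowers, hyG])).symm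
  -- an involution inverting `y`
  obtain ⟨u, hu2, hu1, huA⟩ : ∃ u : G, u * u = 1 ∧ u ≠ 1 ∧ u ∈ zpowers a := by
    refine ⟨a ^ (e / 2), ?_, fun e0 => ?_, pow_mem (mem_zpowers a) _⟩
    · rw [← pow_add, show e / 2 + e / 2 = e by omega, ← F.ord, pow_orderOf_eq_one]
    · have h := orderOf_dvd_of_pow_eq_one e0
      rw [F.ord] at h
      have := Nat.le_of_dvd (by have := F.two; omega) h
      have := F.two
      omega
  have hinv : u * (y : G) * u⁻¹ = (y : G)⁻¹ := by
    have huy : u * (y : G) * u⁻¹ ∈ (P : Subgroup G) :=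
      (mem_normalizer_iff.1 (F.zpowers_le_normalizer huA) _).1 y.2
    have hcomm : u * (y : G) * u⁻¹ * y = y * (u * (y : G) * u⁻¹) := by
      have hCy : centralizer ({(y : G)} : Set G) = (P : Subgroup G) := F.cent _ y.2 hy1
      have h : u * (y : G) * u⁻¹ ∈ centralizer ({(y : G)} : Set G) := by rw [hCy]; exact huy
      exact mem_centralizer_singleton_iff.1 h
    by_contra hne
    have hw1 : (y : G) * (u * y * u⁻¹) ≠ 1 := fun e0 => hne (eq_inv_of_mul_eq_one_right e0)
    have huC : u ∈ (P : Subgroup G) := by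
      refine (F.cent _ (mul_mem y.2 huy) hw1).le (mem_centralizer_singleton_iff.2 ?_)
      calc u * ((y : G) * (u * y * u⁻¹)) = u * y * u⁻¹ * (u * u) * y * u⁻¹ := by group
        _ = u * y * u⁻¹ * y * u⁻¹ := by rw [hu2, mul_one]
        _ = y * (u * y * u⁻¹) * u⁻¹ := by rw [hcomm]
        _ = y * (u * y * u⁻¹) * u := by rw [inv_eq_of_mul_eq_one_right hu2]
    exact hu1 (F.eq_one_of_mem huC huA)
  obtain ⟨z, hz1, -, hz2, hCz, hidx⟩ := H.exists_central
  have hzz : z * z = 1 := by rw [← pow_two]; exact orderOf_dvd_iff_pow_eq_one.1 hz2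
  obtain ⟨X, Y, εX, ε, hdisj, hTX, hT1, hXc, hYc, hX, hε, hYdeg, hYagree, hrel, hYsum, hK0, -⟩ :=
    exists_values F
  -- the exceptional characters have degree `r`
  obtain ⟨η, hηY, hηd⟩ : ∃ η ∈ Y, charDegree (η : G → ℂ) = r := by
    obtain ⟨M, hM⟩ := CfsgLib.ZStar.exists_isPModular H.hp
    haveI := hM.2.1.isPrime
    obtain ⟨η, -, hd, hne⟩ := H.exists_eta hM hyG
    have hmem : η ∈ X ∪ Y := by
      by_contra h
      exact hne (hK0 η h _ hystar)
    rcases Finset.mem_union.1 hmem with h | h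
    · exfalso
      obtain ⟨h1, h2, -⟩ := hX η h
      rw [hd] at h2
      obtain ⟨k, hk⟩ := (Int.modEq_iff_dvd.1 h2)
      obtain ⟨i, hi⟩ := hrodd
      have := H.hrp
      have := H.hr3
      have hk0 : k = 0 := by
        have h3 : (p : ℤ) * k < p ∧ -(p : ℤ) < p * k := by
          rcases h1 with e1 | e1 <;> rw [e1] at hk <;> constructor <;> omega
        nlinarith [h3.1, h3.2]
      rw [hk0, mul_zero] at hk
      rcases h1 with e1 | e1 <;> rw [e1] at hk <;> omega
    · exact ⟨η, h, hd⟩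
  have hεm : ε = -1 := by
    rcases hε with h | h
    · exfalso
      have h2 := hYdeg η hηY
      rw [hηd, h, one_mul] at h2
      obtain ⟨k, hk⟩ := Int.modEq_iff_dvd.1 h2
      have h3 : (p : ℤ) * k < p ∧ -(p : ℤ) < p * k := by
        have := F.e_lt; have := H.hrp
        constructor <;> omega
      have hk0 : k = 0 := by nlinarith [h3.1, h3.2]
      rw [hk0, mul_zero] at hk
      obtain ⟨i, hi⟩ := hrodd
      omega
    · exact h
  have hYd : ∀ θ ∈ Y, (θ : G → ℂ) 1 = r := fun θ hθ => by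
    rw [hYagree θ hθ η hηY 1 (by rw [orderOf_one]; exact H.hp.not_dvd_one), apply_one_eq_charDegree,
      hηd]
  obtain ⟨a₀, ha₀⟩ := CfsgLib.Perm.SelfCentDegree.exists_int_of_sq_eq_one η hzz
  have hzreg : ¬ p ∣ orderOf z := fun h => by
    have := Nat.le_of_dvd (by norm_num) (h.trans hz2)
    omega
  have hYz : ∀ θ ∈ Y, (θ : G → ℂ) z = (a₀ : ℂ) := fun θ hθ => by
    rw [hYagree θ hθ η hηY z hzreg, ha₀]
  have hXone : ∑ χ ∈ X, (εX χ : ℂ) * (χ : G → ℂ) 1 = -(r : ℂ) := by
    rw [← hrel η hηY 1 (by rw [orderOf_one]; exact H.hp.not_dvd_one), hεm, apply_one_eq_charDegree,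
      hηd]
    simp
  have hsplit : ∀ f : IrrCharacter G → ℂ, (∀ χ, χ ∉ X ∪ Y → f χ = 0) →
      ∑ χ, f χ = ∑ χ ∈ X, f χ + ∑ χ ∈ Y, f χ := fun f hf => by
    rw [← Finset.sum_union hdisj, Finset.sum_subset (Finset.subset_univ _) fun χ _ h => hf χ h]
  have hYy : ∑ θ ∈ Y, (θ : G → ℂ) (y : G) = 1 := by
    have h := sum_degree_mul_apply_of_ne_one hy1
    rw [hsplit _ (fun χ hχ => by rw [hK0 χ hχ _ hystar, mul_zero]),
      Finset.sum_congr rfl (s₁ := X) (g := fun χ => (εX χ : ℂ) * (χ : G → ℂ) 1)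
        (fun χ hχ => by rw [(hX χ hχ).2.2 _ hystar, mul_comm]), hXone,
      Finset.sum_congr rfl (s₁ := Y) (g := fun θ => (r : ℂ) * (θ : G → ℂ) (y : G))
        (fun θ hθ => by rw [hYd θ hθ]), ← Finset.mul_sum] at h
    refine mul_left_cancel₀ (Nat.cast_ne_zero.2 H.hr.ne_zero) ?_
    linear_combination h
  -- the values of the other nonexceptional characters
  have hXval : ∀ χ ∈ X.erase (trivChar G), ∃ k w : ℤ, (χ : G → ℂ) z = k ∧
      (r : ℂ) * ((χ : G → ℂ) z * (χ : G → ℂ) z) = (w : ℂ) * (χ : G → ℂ) 1 ∧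
      0 ≤ w ∧ 4 ∣ w ∧ 4 * w ≤ k * k := by
    intro χ hχ
    obtain ⟨hne, hχX⟩ := Finset.mem_erase.1 hχ
    obtain ⟨h1, h2, -⟩ := hX χ hχX
    obtain ⟨k, hk⟩ := CfsgLib.Perm.SelfCentDegree.exists_int_of_sq_eq_one χ hzz
    have hpd : ¬ p ∣ charDegree (χ : G → ℂ) := fun hd => by
      obtain ⟨c, hc⟩ := Int.modEq_iff_dvd.1 h2
      have h3 : (p : ℤ) ∣ εX χ := by
        rw [show εX χ = (p : ℤ) * c + (charDegree (χ : G → ℂ) : ℤ) by omega]
        exact dvd_add (dvd_mul_right _ _) (Int.natCast_dvd_natCast.2 hd)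
      have := Int.natAbs_dvd_natAbs.2 h3
      rw [Int.natAbs_natCast, show (εX χ).natAbs = 1 by rcases h1 with e1 | e1 <;> rw [e1] <;> rfl]
        at this
      exact H.hp.not_dvd_one this
    by_cases hrd : r ∣ charDegree (χ : G → ℂ)
    swap
    · have hz0 := H.apply_central_eq_zero hz1 hidx hne hpd hrd
      exact ⟨0, 0, by rw [hz0, Int.cast_zero], by rw [hz0]; simp, le_rfl, dvd_zero _, le_rfl⟩
    obtain ⟨c, hc⟩ := hrd
    have hdvd : charDegree (χ : G → ℂ) ∣ r * 2 ^ b := H.degree_dvd (l := p) (by ring)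
      (H.hp.coprime_iff_not_dvd.2 hpd).symm
    rw [hc] at hdvd
    obtain ⟨j, -, rfl⟩ := (Nat.dvd_prime_pow Nat.prime_two).1
      ((Nat.mul_dvd_mul_iff_left H.hr.pos).1 hdvd)
    have hj2 : 2 ≤ j := by
      obtain ⟨c, hc'⟩ := Int.modEq_iff_dvd.1 h2
      rw [hc] at hc'
      by_contra hj
      obtain ⟨i, hi⟩ := hrodd
      obtain ⟨i', hi'⟩ := hodd
      have := H.hrp
      have := H.hr3
      have := F.two
      have h3e : e * 3 ≤ e * t := Nat.mul_le_mul_left e ht3
      rcases j with _ | _ | j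
      · push_cast at hc'
        have hc0 : c = 0 := by
          have h3 : (p : ℤ) * c < p ∧ -(p : ℤ) < p * c := by
            rcases h1 with e1 | e1 <;> rw [e1] at hc' <;> constructor <;> omega
          nlinarith [h3.1, h3.2]
        subst hc0
        rcases h1 with e1 | e1 <;> rw [e1] at hc' <;> omega
      · push_cast at hc'
        have hc0 : c = -1 := by
          have h3 : (p : ℤ) * c < 0 ∧ -(2 * p : ℤ) < p * c := by
            rcases h1 with e1 | e1 <;> rw [e1] at hc' <;> constructor <;> omega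
          nlinarith [h3.1, h3.2]
        subst hc0
        rcases h1 with e1 | e1 <;> rw [e1] at hc' <;> omega
      · omega
    obtain ⟨w, hw⟩ : ∃ w : ℤ, k = 2 ^ j * w := by
      have hint := CfsgLib.CharDegree.isIntegral_centralChar χ z
      rw [centralChar, hidx, hk, apply_one_eq_charDegree, hc] at hint
      have hint' : IsIntegral ℤ (((p * k.natAbs : ℕ) : ℂ) / ((2 ^ j : ℕ) : ℂ)) := by
        have hr0 : (r : ℂ) ≠ 0 := Nat.cast_ne_zero.2 H.hr.ne_zero
        have h0 : ((p * r : ℕ) : ℂ) * (k : ℂ) / ((r * 2 ^ j : ℕ) : ℂ) =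
            ((p : ℂ) * (k : ℂ)) / ((2 ^ j : ℕ) : ℂ) := by
          push_cast
          field_simp
        rw [h0] at hint
        rcases Int.natAbs_eq k with hk' | hk'
        · rw [hk'] at hint; push_cast; simpa using hint
        · rw [hk'] at hint
          have := hint.neg
          push_cast at this ⊢
          simpa [neg_div] using this
      have hd := CfsgLib.CharIntegral.dvd_of_isIntegral_div (pow_ne_zero j two_ne_zero) hint'
      have hd' : 2 ^ j ∣ k.natAbs :=
        (((Nat.coprime_primes Nat.prime_two H.hp).2 (by omega)).pow_left j).dvd_of_dvd_mul_left hd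
      exact Int.natAbs_dvd_natAbs.1 (by rwa [Int.natAbs_pow])
    refine ⟨k, 2 ^ j * (w * w), hk, ?_, mul_nonneg (pow_nonneg (by norm_num) j) (mul_self_nonneg w), ?_, ?_⟩
    · rw [hk, apply_one_eq_charDegree, hc, hw]
      push_cast
      ring
    · refine dvd_mul_of_dvd_left ?_ _
      rw [show (4 : ℤ) = 2 ^ 2 by norm_num]
      exact pow_dvd_pow 2 hj2
    · rw [hw]
      have h4 : (4 : ℤ) ≤ 2 ^ j := by
        rw [show (4 : ℤ) = 2 ^ 2 by norm_num]
        exact pow_le_pow_right₀ (by norm_num) hj2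
      nlinarith [mul_self_nonneg w, mul_nonneg (sub_nonneg.2 h4) (mul_self_nonneg w),
        pow_pos (show (0 : ℤ) < 2 by norm_num) j]
  choose! k w hkz hwz hw0 hw4 hwk using hXval
  set X' := X.erase (trivChar G) with hX'
  set S : ℤ := ∑ χ ∈ X', εX χ * w χ with hS
  -- the class equation
  have hcnt := CfsgLib.CharDegree.sum_three (G := G) z z (y : G)
  rw [hsplit _ (fun χ hχ => by rw [hK0 χ hχ _ hystar, mul_zero, zero_div])] at hcnt
  have hr0 : (r : ℂ) ≠ 0 := Nat.cast_ne_zero.2 H.hr.ne_zero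
  have hX1 : ∑ χ ∈ X, (χ : G → ℂ) z * (χ : G → ℂ) z * (χ : G → ℂ) (y : G) / (χ : G → ℂ) 1 =
      1 + (S : ℂ) / r := by
    rw [← Finset.add_sum_erase _ _ hTX, ← hX']
    congr 1
    · simp
    · rw [hS, Int.cast_sum, Finset.sum_div]
      refine Finset.sum_congr rfl fun χ hχ => ?_
      rw [(hX χ (Finset.mem_of_mem_erase hχ)).2.2 _ hystar, Int.cast_mul]
      have h1 := IsIrr.apply_one_ne_zero χ.2
      field_simp
      linear_combination (εX χ : ℂ) * hwz χ hχ
  have hY1 : ∑ θ ∈ Y, (θ : G → ℂ) z * (θ : G → ℂ) z * (θ : G → ℂ) (y : G) / (θ : G → ℂ) 1 =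
      (a₀ : ℂ) * a₀ / r := by
    rw [Finset.sum_congr rfl (g := fun θ : IrrCharacter G => (a₀ : ℂ) * a₀ / r * (θ : G → ℂ) (y : G))
      (fun θ hθ => by rw [hYz θ hθ, hYd θ hθ]; ring), ← Finset.mul_sum, hYy, mul_one]
  rw [hX1, hY1, H.card] at hcnt
  set N := Nat.card {k : G × G // k.1 * z * k.1⁻¹ * (k.2 * z * k.2⁻¹ * (y : G)) = 1} with hN
  have hmain : (p : ℤ) * 2 ^ b * ((r : ℤ) + a₀ * a₀ + S) = N := by
    have : (((p : ℤ) * 2 ^ b * ((r : ℤ) + a₀ * a₀ + S) : ℤ) : ℂ) = ((N : ℤ) : ℂ) := by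
      rw [Int.cast_natCast, ← hcnt]
      push_cast
      field_simp
      ring
    exact_mod_cast this
  have hS4 : (4 : ℤ) ∣ S := Finset.dvd_sum fun χ hχ => dvd_mul_of_dvd_right (hw4 χ hχ) _
  obtain ⟨i, hi⟩ : ∃ i : ℤ, a₀ = 2 * i + 1 := by
    haveI := Fintype.ofFinite (zpowers z)
    obtain ⟨d, hd⟩ := CharAverage.exists_sum_eq (zpowers z) (IsIrr.isCharacter η.2)
    have hoz : orderOf z = 2 := ((Nat.dvd_prime Nat.prime_two).1 hz2).resolve_left fun h =>
      hz1 (orderOf_eq_one_iff.1 h)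
    rw [sum_subgroup, Nat.card_zpowers, hoz] at hd
    have hst : star (zpowers z) = {z} := by
      refine (Finset.eq_of_subset_of_card_le (fun x hx => ?_) ?_).symm
      · rw [Finset.mem_singleton] at hx; subst hx; exact mem_star.2 ⟨hz1, mem_zpowers _⟩
      · have := card_star (zpowers z)
        rw [Nat.card_zpowers, hoz] at this
        simp; omega
    rw [hst, Finset.sum_singleton, apply_one_eq_charDegree, hηd, ha₀] at hd
    have hd' : (r : ℤ) + a₀ = 2 * d := by exact_mod_cast hd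
    obtain ⟨j, hj⟩ := hrodd
    exact ⟨d - j - 1, by omega⟩
  have hCC : centralizer ({(y : G)} : Set G) = zpowers (y : G) := (F.cent _ y.2 hy1).trans hPy
  obtain ⟨hno, hyes⟩ := count_solutions hodd hyG hzz hu2 hinv hCC
  by_cases hconj : IsConj z u
  swap
  · exfalso
    rw [hN, hno hconj, Nat.cast_zero, mul_eq_zero] at hmain
    have h0 : (r : ℤ) + a₀ * a₀ + S = 0 := hmain.resolve_left
      (mul_ne_zero (by exact_mod_cast H.hp.ne_zero) (pow_ne_zero _ two_ne_zero))
    obtain ⟨s, hs⟩ := hS4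
    have hsq : a₀ * a₀ = 4 * (i * i + i) + 1 := by rw [hi]; ring
    generalize i * i + i = J at hsq
    have hp4 : ∃ J', p = 4 * J' + 1 := ⟨k4 * t, by rw [← het, hk4]; ring⟩
    obtain ⟨J', hJ'⟩ := hp4
    omega
  · rw [hN, hyes hconj, hCz] at hmain
    have heq : (r : ℤ) + a₀ * a₀ + S = 2 ^ b := by
      push_cast at hmain
      refine mul_left_cancel₀ (mul_ne_zero (b := (2 : ℤ) ^ b) (Nat.cast_ne_zero.2 H.hp.ne_zero)
        (pow_ne_zero _ two_ne_zero)) (hmain.trans ?_)
      ring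
    -- the column of `z`
    have hcol : (1 : ℤ) + ∑ χ ∈ X', k χ * k χ + t * (a₀ * a₀) ≤ 2 ^ b := by
      haveI : Decidable (IsConj z z) := Classical.dec _
      have h := column_orthogonality z z
      rw [if_pos (IsConj.refl z), hCz] at h
      simp only [Complex.mul_conj, ← Complex.ofReal_sum] at h
      have h' : ∑ χ : IrrCharacter G, Complex.normSq ((χ : G → ℂ) z) = ((2 ^ b : ℕ) : ℝ) := by
        exact_mod_cast h
      have hle : ∑ χ ∈ X ∪ Y, Complex.normSq ((χ : G → ℂ) z) ≤
          ∑ χ : IrrCharacter G, Complex.normSq ((χ : G → ℂ) z) :=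
        Finset.sum_le_sum_of_subset_of_nonneg (Finset.subset_univ _) fun _ _ _ =>
          Complex.normSq_nonneg _
      rw [Finset.sum_union hdisj, ← Finset.add_sum_erase _ _ hTX, ← hX', trivChar_apply, map_one,
        Finset.sum_congr rfl (s₁ := X') (g := fun χ => ((k χ * k χ : ℤ) : ℝ)) (fun χ hχ => by
          rw [hkz χ hχ, ← Complex.ofReal_intCast, Complex.normSq_ofReal, Int.cast_mul]),
        Finset.sum_congr rfl (s₁ := Y) (g := fun _ => ((a₀ * a₀ : ℤ) : ℝ)) (fun θ hθ => by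
          rw [hYz θ hθ, ← Complex.ofReal_intCast, Complex.normSq_ofReal, Int.cast_mul]),
        Finset.sum_const, hYc, nsmul_eq_mul, h', ← Int.cast_sum] at hle
      exact_mod_cast hle
    have hS_le : 4 * S ≤ ∑ χ ∈ X', k χ * k χ := by
      rw [hS, Finset.mul_sum]
      refine Finset.sum_le_sum fun χ hχ => le_trans ?_ (hwk χ hχ)
      have := hw0 χ hχ
      rcases (hX χ (Finset.mem_of_mem_erase hχ)).1 with e1 | e1 <;> rw [e1] <;> omega
    have hk0 : (0 : ℤ) ≤ ∑ χ ∈ X', k χ * k χ := Finset.sum_nonneg fun _ _ => mul_self_nonneg _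
    have ht' : (3 : ℤ) ≤ t := by exact_mod_cast ht3
    have hbound : 2 * (2 : ℤ) ^ b < 3 * r := by
      nlinarith [mul_nonneg (sub_nonneg.2 ht') (mul_self_nonneg a₀)]
    -- `2 ^ b ≡ -1 mod p`
    have hG : e * p * (1 + n * p) = p * r * 2 ^ b := by rw [← F.cardG, H.card]
    have hG' : (e : ℤ) * (1 + n * p) = r * 2 ^ b := by
      have : e * (1 + n * p) = r * 2 ^ b := Nat.eq_of_mul_eq_mul_left H.hp.pos (by linarith)
      exact_mod_cast this
    have hre : (r : ℤ) = p - e := by omega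
    have hdvd : (p : ℤ) ∣ (e : ℤ) * ((2 : ℤ) ^ b + 1) := ⟨(2 : ℤ) ^ b - e * n, by
      rw [hre] at hG'; linear_combination hG'⟩
    have hdvd' : p ∣ 2 ^ b + 1 := by
      have h1 : p ∣ e * (2 ^ b + 1) := by exact_mod_cast hdvd
      refine (H.hp.dvd_mul.1 h1).resolve_left fun h => ?_
      have := Nat.le_of_dvd (by have := F.two; omega) h
      have := F.e_lt
      omega
    obtain ⟨c, hc⟩ := hdvd'
    have hb2 : 2 * 2 ^ b < 3 * r := by exact_mod_cast hbound
    have hc1 : c = 1 := by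
      rcases Nat.lt_or_ge c 2 with h | h
      · rcases Nat.lt_or_ge c 1 with h' | h'
        · simp [show c = 0 by omega] at hc
        · omega
      · have := H.hrp
        have : p * 2 ≤ p * c := Nat.mul_le_mul_left p h
        omega
    rw [hc, hc1, mul_one]

/-- Few Sylow subgroups, or a large prime. -/
theorem dichotomy {p r q b : ℕ} (H : Hyp G p r q b) [Fact p.Prime] :
    (∃ P : Sylow p G, Nat.card (P : Subgroup G) = p ∧
      centralizer ((P : Subgroup G) : Set G) = (P : Subgroup G) ∧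
      2 * Nat.card (Sylow p G) < (p + 1) * (p + 2)) ∨ Nat.card G < p ^ 3 := by
  have := Fintype.ofFinite (IrrCharacter G)
  obtain ⟨P⟩ := (inferInstance : Nonempty (Sylow p G))
  have hP : Nat.card (P : Subgroup G) = p := by
    rw [CfsgLib.Perm.sylow_card_eq P (k := 1) (m := r * q ^ b) (by rw [H.card]; ring)
      (fun h => (H.hp.dvd_mul.1 h).elim H.p_not_dvd_r H.p_coprime_q), pow_one]
  obtain ⟨y, hy⟩ := exists_prime_orderOf_dvd_card' (G := (P : Subgroup G)) p (by rw [hP])
  have hyG : orderOf (y : G) = p := by rw [Subgroup.orderOf_coe, hy]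
  have hy1 : (y : G) ≠ 1 := fun e0 => by
    rw [e0, orderOf_one] at hyG; exact H.hp.ne_one hyG.symm
  have hPy : (P : Subgroup G) = zpowers (y : G) :=
    (eq_of_le_of_card_ge (zpowers_le.2 y.2) (by rw [hP, Nat.card_zpowers, hyG])).symm
  have hC : centralizer ((P : Subgroup G) : Set G) = (P : Subgroup G) := by
    rw [hPy, zpowers_eq_closure, centralizer_closure, H.centralizer_p hyG, zpowers_eq_closure]
  obtain ⟨a, e, t, n, F⟩ := exists_frame P hP hC H.perf
  obtain ⟨X, Y, εX, ε, hdisj, hTX, hT1, hXc, hYc, hX, hε, hYdeg, hYagree, hrel, -, hK0, -⟩ :=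
    exists_values F
  have hystar : (y : G) ∈ star (P : Subgroup G) := mem_star.2 ⟨hy1, y.2⟩
  have hG : e * (1 + n * p) = r * q ^ b := by
    refine Nat.eq_of_mul_eq_mul_left H.hp.pos ?_
    have := F.cardG
    rw [H.card] at this
    linarith
  have hrodd : Odd r := H.hr.odd_of_ne_two (by have := H.hr3; omega)
  have hpodd : Odd p := H.hp.odd_of_ne_two (by have := H.hr3; have := H.hrp; omega)
  obtain ⟨M, hM⟩ := CfsgLib.ZStar.exists_isPModular H.hp
  haveI := hM.2.1.isPrime
  obtain ⟨η, -, hηd, hne⟩ := H.exists_eta hM hyG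
  have hηY : η ∈ Y := by
    have hmem : η ∈ X ∪ Y := by
      by_contra h
      exact hne (hK0 η h _ hystar)
    refine (Finset.mem_union.1 hmem).resolve_left fun h => ?_
    obtain ⟨h1, h2, -⟩ := hX η h
    rw [hηd] at h2
    obtain ⟨k, hk⟩ := Int.modEq_iff_dvd.1 h2
    obtain ⟨i, hi⟩ := hrodd
    obtain ⟨i', hi'⟩ := hpodd
    have := H.hrp
    have := H.hr3
    have hk0 : k = 0 := by
      have h3 : (p : ℤ) * k < p ∧ -(p : ℤ) < p * k := by
        rcases h1 with e1 | e1 <;> rw [e1] at hk <;> constructor <;> omega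
      nlinarith [h3.1, h3.2]
    rw [hk0, mul_zero] at hk
    rcases h1 with e1 | e1 <;> rw [e1] at hk <;> omega
  have hqlt := H.q_pow_lt
  have hcases : e = r ∨ (e + r = p ∧ ε = -1) := by
    have h2 := hYdeg η hηY
    rw [hηd] at h2
    obtain ⟨k, hk⟩ := Int.modEq_iff_dvd.1 h2
    have := H.hrp
    have := F.e_lt
    rcases hε with h | h <;> rw [h] at hk
    · left
      have hk0 : k = 0 := by
        have h3 : (p : ℤ) * k < p ∧ -(p : ℤ) < p * k := by constructor <;> omega
        nlinarith [h3.1, h3.2]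
      rw [hk0, mul_zero] at hk
      omega
    · right
      have hk0 : k = -1 := by
        have h3 : (p : ℤ) * k < 0 ∧ -(2 * p : ℤ) < p * k := by
          have := H.hr3; constructor <;> omega
        nlinarith [h3.1, h3.2]
      rw [hk0] at hk
      exact ⟨by omega, h⟩
  rcases hcases with he | ⟨her, hεm⟩
  · left
    refine ⟨P, hP, hC, ?_⟩
    have hn : 1 + n * p = q ^ b := by
      rw [he] at hG; exact Nat.eq_of_mul_eq_mul_left H.hr.pos hG
    have ht2 : 2 ≤ t := by
      have het := F.et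
      rw [he] at het
      have := H.hrp
      have := H.hr3
      rcases t with _ | _ | t
      · omega
      · obtain ⟨i, hi⟩ := hrodd
        obtain ⟨i', hi'⟩ := hpodd
        omega
      · omega
    have h2r : 2 * r + 1 ≤ p := by
      have het := F.et
      rw [he] at het
      have : r * 2 ≤ r * t := Nat.mul_le_mul_left r ht2
      omega
    rw [F.syl, hn]
    nlinarith
  · right
    have heven : Even e := by
      obtain ⟨i, hi⟩ := hrodd
      obtain ⟨i', hi'⟩ := hpodd
      exact ⟨i' - i, by omega⟩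
    have hecop : e.Coprime r := by
      refine (H.hr.coprime_iff_not_dvd.2 fun h => H.r_not_dvd_p ?_).symm
      rw [← her]; exact dvd_add h dvd_rfl
    have hedvd : e ∣ q ^ b := hecop.dvd_of_dvd_mul_left ⟨_, hG.symm⟩
    have hq2 : q = 2 := ((Nat.prime_dvd_prime_iff_eq Nat.prime_two H.hq).1
      (Nat.prime_two.dvd_of_dvd_pow (heven.two_dvd.trans hedvd))).symm
    subst hq2
    obtain ⟨m, -, hm⟩ := (Nat.dvd_prime_pow Nat.prime_two).1 hedvd
    have hm1 : 1 ≤ m := by
      rcases m with _ | m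
      · have := F.two; omega
      · omega
    have key : 2 ^ b + 1 = p := by
      rcases Nat.lt_or_ge m 2 with h | h
      · -- two nonexceptional characters
        have he2 : e = 2 := by rw [hm, show m = 1 by omega, pow_one]
        have hb1 : 1 < 2 ^ b := Nat.one_lt_pow (by have := H.hb; omega) one_lt_two
        obtain ⟨χ, hχd, hχy⟩ := H.exists_steinberg hyG
        have hχX : χ ∈ X := by
          have hmem : χ ∈ X ∪ Y := by
            by_contra h
            exact hχy (hK0 χ h _ hystar)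
          refine (Finset.mem_union.1 hmem).resolve_right fun h => ?_
          have h1 := hYagree χ h η hηY 1 (by rw [orderOf_one]; exact H.hp.not_dvd_one)
          rw [apply_one_eq_charDegree, apply_one_eq_charDegree, hχd, hηd, Nat.cast_inj] at h1
          obtain ⟨i, hi⟩ := hrodd
          obtain ⟨j, hj⟩ := dvd_pow_self 2 (show b ≠ 0 by have := H.hb; omega)
          omega
        have hχne : trivChar G ≠ χ := fun e0 => by
          rw [← e0, charDegree, trivChar_apply] at hχd
          simp at hχd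
          omega
        have hX2 : X = {trivChar G, χ} := by
          refine (Finset.eq_of_subset_of_card_le ?_ ?_).symm
          · intro ψ hψ
            simp only [Finset.mem_insert, Finset.mem_singleton] at hψ
            rcases hψ with rfl | rfl
            · exact hTX
            · exact hχX
          · rw [hXc, he2, Finset.card_pair hχne]
        have h1 := hrel η hηY 1 (by rw [orderOf_one]; exact H.hp.not_dvd_one)
        rw [hX2, Finset.sum_pair hχne, hT1, hεm, apply_one_eq_charDegree, apply_one_eq_charDegree,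
          apply_one_eq_charDegree, hηd, hχd] at h1
        have ht1 : charDegree ((trivChar G : IrrCharacter G) : G → ℂ) = 1 := by
          rw [charDegree, trivChar_apply]; simp
        rw [ht1] at h1
        have h1' : -(r : ℤ) = 1 + εX χ * ((2 ^ b : ℕ) : ℤ) := by
          have : ((-(r : ℤ) : ℤ) : ℂ) = ((1 + εX χ * ((2 ^ b : ℕ) : ℤ) : ℤ) : ℂ) := by
            push_cast at h1 ⊢
            linear_combination h1
          exact_mod_cast this
        rcases (hX χ hχX).1 with e1 | e1 <;> rw [e1] at h1' <;> omega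
      · exact q_pow_eq_of_four_dvd H F her hm h
    rw [H.card]
    have := H.hrp
    calc p * r * 2 ^ b < p * p * p := by
          refine Nat.mul_lt_mul_of_le_of_lt ?_ (by omega) (Nat.mul_pos H.hp.pos H.hp.pos)
          exact Nat.mul_le_mul_left p (le_of_lt H.hrp)
      _ = p ^ 3 := by ring

end CfsgLib.Perm.ThreePrimeOrder
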