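import Cfsg.Agent.Lib.Char.Basic
import Cfsg.Agent.Lib.CharDegree.Basic
import Mathlib.Tactic

/-!
# Averages over a cyclic group inside a representation

* `apply_eq_of_deg_lt`: a character of degree below a prime `p` which is constant along the cosets
  of an element `y` of order `p` by a commuting element `v` takes its degree at `v`.
* `norm_apply_eq_of_vanish`: a character of degree `r` vanishing on the `r`-singular elements of
  `⟨s, v⟩`, with `s` of order `r`, has norm `r` at `v`.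
-/

set_option autoImplicit false

namespace CfsgLib.Perm.ThreePrimeOrder

open CfsgLib.Char

variable {V : Type*} [AddCommGroup V] [Module ℂ V]

/-- The average over the powers of an endomorphism of finite order is an idempotent. -/
theorem avg_isIdempotent {S : Module.End ℂ V} {p : ℕ} (hp : p ≠ 0) (hS : S ^ p = 1) :
    ((p : ℂ)⁻¹ • ∑ i ∈ Finset.range p, S ^ i) * ((p : ℂ)⁻¹ • ∑ i ∈ Finset.range p, S ^ i) =
      (p : ℂ)⁻¹ • ∑ i ∈ Finset.range p, S ^ i := by
  set E := ∑ i ∈ Finset.range p, S ^ i with hE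
  have h1 : S * E = E := by
    have ha := Finset.sum_range_succ' (fun i => S ^ i) p
    have hb := Finset.sum_range_succ (fun i => S ^ i) p
    rw [hb, hS, pow_zero] at ha
    rw [hE, Finset.mul_sum]
    simp only [← pow_succ']
    exact (add_right_cancel ha).symm
  have h2 : ∀ i, S ^ i * E = E := by
    intro i
    induction i with
    | zero => rw [pow_zero, one_mul]
    | succ i ih => rw [pow_succ, mul_assoc, h1, ih]
  have h3 : E * E = (p : ℂ) • E := by
    conv_lhs => arg 1; rw [hE]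
    rw [Finset.sum_mul, Finset.sum_congr rfl (fun i _ => h2 i), Finset.sum_const, Finset.card_range,
      Nat.cast_smul_eq_nsmul]
  rw [smul_mul_assoc, mul_smul_comm, h3, smul_smul, smul_smul, mul_assoc,
    inv_mul_cancel₀ (Nat.cast_ne_zero.2 hp), mul_one]

/-- The trace of an idempotent is the dimension of its range. -/
theorem trace_idempotent [FiniteDimensional ℂ V] {e : Module.End ℂ V} (he : e * e = e) :
    LinearMap.trace ℂ V e = (Module.finrank ℂ (LinearMap.range e) : ℂ) := by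
  refine LinearMap.IsProj.trace ⟨fun x => LinearMap.mem_range_self e x, ?_⟩
  rintro _ ⟨x, rfl⟩
  rw [← Module.End.mul_apply, he]

variable {G : Type*} [Group G] [Finite G]

theorem apply_eq_of_deg_lt (χ : Cfsg.IrrCharacter G) {p : ℕ} (hp : p.Prime) {y v : G}
    (hy : y ^ p = 1) (hdeg : Cfsg.charDegree (χ : G → ℂ) < p)
    (hval : ∀ i, i < p → i ≠ 0 → (χ : G → ℂ) (y ^ i * v) = (χ : G → ℂ) (y ^ i)) :
    (χ : G → ℂ) v = (χ : G → ℂ) 1 := by
  classical
  obtain ⟨n, ρ, -, hρ, hn⟩ := CfsgLib.CharDegree.exists_rep χ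
  obtain ⟨ω, hω⟩ : ∃ ω : ℂ, IsPrimitiveRoot ω p := ⟨_, Complex.isPrimitiveRoot_exp p hp.ne_zero⟩
  let S : ℕ → Module.End ℂ (Fin n → ℂ) := fun j => (ω ^ j) • ρ y
  have hSpow : ∀ j i, S j ^ i = (ω ^ (j * i)) • ρ (y ^ i) := fun j i => by
    rw [smul_pow, ← pow_mul, ← map_pow]
  have hSp : ∀ j, S j ^ p = 1 := fun j => by
    rw [hSpow, hy, map_one, mul_comm, pow_mul, hω.pow_eq_one, one_pow, one_smul]
  let E : ℕ → Module.End ℂ (Fin n → ℂ) := fun j => ∑ i ∈ Finset.range p, S j ^ i
  let d : ℕ → ℕ := fun j => Module.finrank ℂ (LinearMap.range ((p : ℂ)⁻¹ • E j))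
  have hp0 : (p : ℂ) ≠ 0 := Nat.cast_ne_zero.2 hp.ne_zero
  have htrE : ∀ (j : ℕ) (g : G), LinearMap.trace ℂ (Fin n → ℂ) (E j * ρ g) =
      ∑ i ∈ Finset.range p, ω ^ (j * i) * (χ : G → ℂ) (y ^ i * g) := by
    intro j g
    simp only [E, Finset.sum_mul, map_sum, hSpow, smul_mul_assoc, map_smul, smul_eq_mul, ← map_mul]
    refine Finset.sum_congr rfl fun i _ => ?_
    rw [← hρ]; rfl
  have htr : ∀ j, LinearMap.trace ℂ (Fin n → ℂ) (E j) = (p : ℂ) * d j := by
    intro j
    show _ = (p : ℂ) * (Module.finrank ℂ (LinearMap.range ((p : ℂ)⁻¹ • E j)) : ℂ)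
    rw [← trace_idempotent (avg_isIdempotent hp.ne_zero (hSp j)), map_smul, smul_eq_mul,
      ← mul_assoc, mul_inv_cancel₀ hp0, one_mul]
  have hsum : ∑ j ∈ Finset.range p, d j = n := by
    have h : (p : ℂ) * ((∑ j ∈ Finset.range p, d j : ℕ) : ℂ) = (p : ℂ) * (n : ℂ) := by
      rw [Nat.cast_sum, Finset.mul_sum]
      have e : ∀ j, (p : ℂ) * d j = ∑ i ∈ Finset.range p, ω ^ (j * i) * (χ : G → ℂ) (y ^ i) := by
        intro j
        rw [← htr j, ← mul_one (E j), ← map_one ρ, htrE]
        simp only [mul_one]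
      simp only [e]
      rw [Finset.sum_comm, Finset.sum_eq_single 0]
      · rw [Finset.sum_congr rfl (g := fun _ => (n : ℂ)) (fun j _ => ?_), Finset.sum_const,
          Finset.card_range, nsmul_eq_mul]
        rw [mul_zero, pow_zero, one_mul, pow_zero, ← hρ, Representation.char_one,
          Module.finrank_fin_fun]
      · intro i hi hi0
        rw [← Finset.sum_mul]
        have hz : ∑ j ∈ Finset.range p, ω ^ (j * i) = 0 := by
          have := (hω.pow_of_coprime i ((hp.coprime_iff_not_dvd.2 fun hd =>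
            absurd (Nat.le_of_dvd (Nat.pos_of_ne_zero hi0) hd)
              (not_le.2 (Finset.mem_range.1 hi))).symm)).geom_sum_eq_zero hp.one_lt
          simp only [← pow_mul] at this
          simpa only [mul_comm] using this
        rw [hz, zero_mul]
      · exact fun h => absurd (Finset.mem_range.2 hp.pos) h
    exact_mod_cast mul_left_cancel₀ hp0 h
  obtain ⟨j, hj, hd0⟩ : ∃ j ∈ Finset.range p, d j = 0 := by
    by_contra! h
    have : (Finset.range p).card • 1 ≤ ∑ j ∈ Finset.range p, d j :=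
      Finset.card_nsmul_le_sum _ _ _ fun j hj => Nat.one_le_iff_ne_zero.2 (h j hj)
    rw [Finset.card_range, smul_eq_mul, mul_one, hsum] at this
    omega
  have hE0 : E j = 0 := by
    have h : (p : ℂ)⁻¹ • E j = 0 := LinearMap.range_eq_bot.1 (Submodule.finrank_eq_zero.1 hd0)
    exact (smul_eq_zero.1 h).resolve_left (inv_ne_zero hp0)
  have h1 := htrE j v
  have h2 := htrE j 1
  rw [hE0, zero_mul, map_zero] at h1
  rw [hE0, zero_mul, map_zero] at h2
  rw [← Finset.add_sum_erase _ _ (Finset.mem_range.2 hp.pos)] at h1 h2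
  simp only [pow_zero, mul_zero, one_mul, mul_one] at h1 h2
  rw [Finset.sum_congr rfl (fun i hi => by
    rw [hval i (Finset.mem_range.1 (Finset.mem_of_mem_erase hi)) (Finset.ne_of_mem_erase hi)])] at h1
  linear_combination h2 - h1

theorem norm_apply_eq_of_vanish (χ : Cfsg.IrrCharacter G) {r : ℕ} (hr : r.Prime) {s v : G}
    (hs : s ^ r = 1) (hsv : Commute s v) (hdeg : Cfsg.charDegree (χ : G → ℂ) = r)
    (hvan : ∀ i, i < r → i ≠ 0 → (χ : G → ℂ) (s ^ i) = 0 ∧ (χ : G → ℂ) (s ^ i * v) = 0) :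
    ‖(χ : G → ℂ) v‖ = Cfsg.charDegree (χ : G → ℂ) := by
  classical
  obtain ⟨n, ρ, -, hρ, hn⟩ := CfsgLib.CharDegree.exists_rep χ
  have hnr : n = r := hn.trans hdeg
  obtain ⟨e, he⟩ : ∃ e : Module.End ℂ (Fin n → ℂ), e = (r : ℂ)⁻¹ • ∑ i ∈ Finset.range r, ρ s ^ i :=
    ⟨_, rfl⟩
  have hr0 : (r : ℂ) ≠ 0 := Nat.cast_ne_zero.2 hr.ne_zero
  have hee : e * e = e := he ▸ avg_isIdempotent hr.ne_zero (by rw [← map_pow, hs, map_one])
  have htrE : ∀ g : G, (∀ i, i < r → i ≠ 0 → (χ : G → ℂ) (s ^ i * g) = 0) →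
      LinearMap.trace ℂ (Fin n → ℂ) (e * ρ g) = (r : ℂ)⁻¹ * (χ : G → ℂ) g := by
    intro g hg
    simp only [he, smul_mul_assoc, map_smul, smul_eq_mul, Finset.sum_mul, map_sum, ← map_pow,
      ← map_mul]
    congr 1
    rw [Finset.sum_eq_single 0]
    · rw [pow_zero, one_mul, ← hρ]; rfl
    · intro i hi hi0
      have := hg i (Finset.mem_range.1 hi) hi0
      rw [← hρ] at this
      exact this
    · exact fun h => absurd (Finset.mem_range.2 hr.pos) h
  have hrk : Module.finrank ℂ (LinearMap.range e) = 1 := by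
    have h := htrE 1 (fun i h1 h2 => by rw [mul_one]; exact (hvan i h1 h2).1)
    rw [map_one, mul_one, trace_idempotent hee, ← hρ, Representation.char_one,
      Module.finrank_fin_fun, show (n : ℂ) = r by rw [hnr], inv_mul_cancel₀ hr0] at h
    exact_mod_cast h
  have hcomm : ρ v * e = e * ρ v := by
    simp only [he, mul_smul_comm, smul_mul_assoc, Finset.mul_sum, Finset.sum_mul]
    congr 1
    refine Finset.sum_congr rfl fun i _ => ?_
    rw [← map_pow, ← map_mul, ← map_mul, (hsv.pow_left i).eq]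
  obtain ⟨⟨w, hw⟩, hw0, hspan⟩ := finrank_eq_one_iff'.1 hrk
  have hew : e w = w := by
    obtain ⟨x, rfl⟩ := hw
    rw [← Module.End.mul_apply, hee]
  obtain ⟨c, hc⟩ : ∃ c : ℂ, ρ v w = c • w := by
    obtain ⟨c, hc⟩ := hspan ⟨ρ v w, ρ v w, by
      rw [← Module.End.mul_apply, ← hcomm, Module.End.mul_apply, hew]⟩
    exact ⟨c, (congrArg Subtype.val hc).symm⟩
  have hop : e * ρ v = c • e := by
    refine LinearMap.ext fun x => ?_
    obtain ⟨a, ha⟩ := hspan ⟨e x, LinearMap.mem_range_self e x⟩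
    have ha' : a • w = e x := congrArg Subtype.val ha
    rw [← hcomm, Module.End.mul_apply, LinearMap.smul_apply, ← ha', map_smul, hc, smul_comm]
  have hcpow : ∀ k, ρ (v ^ k) w = c ^ k • w := by
    intro k
    induction k with
    | zero => rw [pow_zero, map_one, pow_zero, one_smul]; rfl
    | succ k ih =>
      rw [pow_succ', map_mul, Module.End.mul_apply, ih, map_smul, hc, smul_smul, pow_succ]
  have hc1 : ‖c‖ = 1 := by
    refine Complex.norm_eq_one_of_pow_eq_one (n := orderOf v) ?_ (orderOf_pos v).ne'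
    have h := hcpow (orderOf v)
    rw [pow_orderOf_eq_one, map_one] at h
    have h' : (c ^ orderOf v - 1) • w = 0 := by rw [sub_smul, one_smul, ← h]; simp
    refine sub_eq_zero.1 ((smul_eq_zero.1 h').resolve_right fun e0 => hw0 (Subtype.ext e0))
  have h := htrE v (fun i h1 h2 => (hvan i h1 h2).2)
  rw [hop, map_smul, trace_idempotent hee, hrk, Nat.cast_one, smul_eq_mul, mul_one] at h
  rw [hdeg]
  have : (χ : G → ℂ) v = (r : ℂ) * c := by rw [h, ← mul_assoc, mul_inv_cancel₀ hr0, one_mul]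
  rw [this, norm_mul, Complex.norm_natCast, hc1, mul_one]

end CfsgLib.Perm.ThreePrimeOrder
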