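import Cfsg.Agent.Lib.Perm.ThreePrimeOrder.Average
import Cfsg.Agent.Lib.Perm.SimpleCount
import Cfsg.Agent.Lib.Blocks.Principal
import Cfsg.Agent.Lib.Blocks.Union
import Cfsg.Agent.Lib.Blocks.PrimeSylow.Setup
import Cfsg.Agent.Lib.Char.Complete
import Cfsg.Agent.Lib.Char.Burnside
import Cfsg.Agent.Lib.ZStar.PrincipalBlock
import Cfsg.Agent.S0928

/-!
# Simple groups of order `p r q ^ b`: centralizers and degrees

With `r < p` odd primes, `p` and `r` self-centralizing, all `q`-elements have `q`-group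
centralizers, and a nontrivial character of degree prime to `p r` has degree `q ^ b`.
-/

set_option autoImplicit false

namespace CfsgLib.Perm.ThreePrimeOrder

open Cfsg CfsgLib.Char CfsgLib.Blocks Subgroup
open scoped Classical ComplexConjugate

/-- The hypotheses on the order. -/
structure Hyp (G : Type*) [Group G] (p r q b : ℕ) : Prop where
  hp : p.Prime
  hr : r.Prime
  hq : q.Prime
  hrp : r < p
  hr3 : 3 ≤ r
  hqp : q ≠ p
  hqr : q ≠ r
  hb : 1 ≤ b
  nc : ¬ IsMulCommutative G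
  card : Nat.card G = p * r * q ^ b

variable {G : Type*} [Group G] [Fintype G] [IsSimpleGroup G] {p r q b : ℕ}

namespace Hyp

variable (H : Hyp G p r q b)
include H

omit [Fintype G] [IsSimpleGroup G] in
theorem not_sq_dvd_p : ¬ p * p ∣ Nat.card G := by
  rw [H.card, mul_assoc]
  intro h
  have h1 := (Nat.mul_dvd_mul_iff_left H.hp.pos).1 h
  rcases H.hp.dvd_mul.1 h1 with h2 | h2
  · have := (Nat.prime_dvd_prime_iff_eq H.hp H.hr).1 h2
    have := H.hrp
    omega
  · exact H.hqp ((Nat.prime_dvd_prime_iff_eq H.hp H.hq).1 (H.hp.dvd_of_dvd_pow h2)).symm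

omit [Fintype G] [IsSimpleGroup G] in
theorem not_sq_dvd_r : ¬ r * r ∣ Nat.card G := by
  rw [H.card, mul_comm p r, mul_assoc]
  intro h
  have h1 := (Nat.mul_dvd_mul_iff_left H.hr.pos).1 h
  rcases H.hr.dvd_mul.1 h1 with h2 | h2
  · have := (Nat.prime_dvd_prime_iff_eq H.hr H.hp).1 h2
    have := H.hrp
    omega
  · exact H.hqr ((Nat.prime_dvd_prime_iff_eq H.hr H.hq).1 (H.hr.dvd_of_dvd_pow h2)).symm

omit [Fintype G] [IsSimpleGroup G] in
theorem p_dvd : p ∣ Nat.card G := ⟨r * q ^ b, by rw [H.card, mul_assoc]⟩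

omit [Fintype G] [IsSimpleGroup G] in
theorem r_dvd : r ∣ Nat.card G := ⟨p * q ^ b, by rw [H.card]; ring⟩

omit [Fintype G] [IsSimpleGroup G] in
theorem q_dvd : q ∣ Nat.card G := by
  rw [H.card]; exact dvd_mul_of_dvd_right (dvd_pow_self q (by have := H.hb; omega)) _

omit [Fintype G] [IsSimpleGroup G] in
theorem prime_cases {l : ℕ} (hl : l.Prime) (h : l ∣ Nat.card G) : l = p ∨ l = r ∨ l = q := by
  rw [H.card] at h
  rcases hl.dvd_mul.1 h with h1 | h1
  · rcases hl.dvd_mul.1 h1 with h2 | h2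
    · exact Or.inl ((Nat.prime_dvd_prime_iff_eq hl H.hp).1 h2)
    · exact Or.inr (Or.inl ((Nat.prime_dvd_prime_iff_eq hl H.hr).1 h2))
  · exact Or.inr (Or.inr ((Nat.prime_dvd_prime_iff_eq hl H.hq).1 (hl.dvd_of_dvd_pow h1)))

omit [Fintype G] [IsSimpleGroup G] in
theorem p_coprime_q : ¬ p ∣ q ^ b := fun h =>
  H.hqp ((Nat.prime_dvd_prime_iff_eq H.hp H.hq).1 (H.hp.dvd_of_dvd_pow h)).symm

omit [Fintype G] [IsSimpleGroup G] in
theorem r_coprime_q : ¬ r ∣ q ^ b := fun h =>
  H.hqr ((Nat.prime_dvd_prime_iff_eq H.hr H.hq).1 (H.hr.dvd_of_dvd_pow h)).symm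

omit [Fintype G] [IsSimpleGroup G] in
theorem p_not_dvd_r : ¬ p ∣ r := fun h => by
  have := Nat.le_of_dvd H.hr.pos h
  have := H.hrp
  omega

omit [Fintype G] [IsSimpleGroup G] in
theorem r_not_dvd_p : ¬ r ∣ p := fun h => by
  have := (Nat.prime_dvd_prime_iff_eq H.hr H.hp).1 h
  have := H.hrp
  omega

omit [Fintype G] in
theorem perf : _root_.commutator G = ⊤ := by
  rcases IsSimpleGroup.eq_bot_or_eq_top_of_normal (_root_.commutator G) inferInstance with h | h
  · exact absurd ⟨⟨fun a b => commutatorElement_eq_one_iff_mul_comm.mp (Subgroup.mem_bot.mp (h ▸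
      Subgroup.commutator_mem_commutator (Subgroup.mem_top a) (Subgroup.mem_top b)))⟩⟩ H.nc
  · exact h

omit [Fintype G] in
theorem center_eq_bot : Subgroup.center G = ⊥ := by
  rcases IsSimpleGroup.eq_bot_or_eq_top_of_normal (Subgroup.center G) inferInstance with h | h
  · exact h
  · exact absurd ⟨⟨fun a b => Subgroup.mem_center_iff.1 (h ▸ Subgroup.mem_top b) a⟩⟩ H.nc

theorem faithful {χ : IrrCharacter G} (hχ : χ ≠ trivChar G) :
    CfsgLib.CharDegree.kerSubgroup χ = ⊥ := by
  rcases (CfsgLib.CharDegree.kerSubgroup_normal χ).eq_bot_or_eq_top with h | h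
  · exact h
  · exfalso
    have hall : ∀ g : G, (χ : G → ℂ) g = (χ : G → ℂ) 1 := fun g =>
      CfsgLib.CharDegree.mem_kerSubgroup.1 (h ▸ Subgroup.mem_top g)
    have hsum := classInner_irr_of_ne (χ := χ) (ψ := trivChar G) hχ
    simp only [Cfsg.classInner, trivChar_apply, map_one, mul_one, hall, Finset.sum_const,
      Finset.card_univ, nsmul_eq_mul] at hsum
    rw [mul_eq_zero, mul_eq_zero, inv_eq_zero] at hsum
    rcases hsum with e | e | e
    · exact absurd e (Nat.cast_ne_zero.2 Nat.card_pos.ne')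
    · exact absurd e (Nat.cast_ne_zero.2 Fintype.card_pos.ne')
    · exact absurd e (IsIrr.apply_one_ne_zero χ.2)

theorem eq_one_of_norm_eq {χ : IrrCharacter G} (hχ : χ ≠ trivChar G) {v : G}
    (h : ‖(χ : G → ℂ) v‖ = charDegree (χ : G → ℂ)) : v = 1 := by
  have := CfsgLib.CharDegree.mem_center_of_norm_eq χ (H.faithful hχ) h
  rwa [H.center_eq_bot, Subgroup.mem_bot] at this

theorem degree_ne_one {χ : IrrCharacter G} (hχ : χ ≠ trivChar G) :
    charDegree (χ : G → ℂ) ≠ 1 := by
  intro h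
  refine H.nc ⟨⟨fun a c => ?_⟩⟩
  have h1 : a * c * a⁻¹ * c⁻¹ = 1 := by
    refine (CfsgLib.CharDegree.kerSubgroup_eq_bot_iff.1 (H.faithful hχ)) _ ?_
    obtain ⟨n, ρ, -, hρ, hn⟩ := CfsgLib.CharDegree.exists_rep χ
    rw [h] at hn
    subst hn
    have hc : ∀ T S : Module.End ℂ (Fin 1 → ℂ), T * S = S * T := by
      intro T S
      obtain ⟨t, ht⟩ : ∃ t : ℂ, T = t • (1 : Module.End ℂ (Fin 1 → ℂ)) := by
        refine ⟨T (fun _ => 1) 0, LinearMap.ext fun x => funext fun i => ?_⟩
        have hx : x = x 0 • (fun _ => (1 : ℂ)) := funext fun j => by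
          rw [Subsingleton.elim j 0]; simp
        rw [LinearMap.smul_apply, Module.End.one_apply, Subsingleton.elim i 0]
        conv_lhs => rw [hx, map_smul]
        simp [mul_comm]
      rw [ht, smul_mul_assoc, one_mul, mul_smul_comm, mul_one]
    have he : ρ (a * c * a⁻¹ * c⁻¹) = ρ 1 := by
      rw [map_mul, map_mul, map_mul, hc (ρ a) (ρ c), mul_assoc (ρ c), ← map_mul, mul_inv_cancel,
        map_one, mul_one, ← map_mul, mul_inv_cancel, map_one]
    rw [← hρ, Representation.character, Representation.character, he]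
  calc a * c = a * c * a⁻¹ * c⁻¹ * (c * a) := by group
    _ = c * a := by rw [h1, one_mul]

/-- Characters of degree divisible by `p` vanish at the `p`-singular elements, and likewise for
`r`. -/
theorem apply_eq_zero_of_dvd {l : ℕ} (hl : l = p ∨ l = r) {χ : IrrCharacter G}
    (hd : l ∣ charDegree (χ : G → ℂ)) {g : G} (hg : l ∣ orderOf g) : (χ : G → ℂ) g = 0 := by
  have hlp : l.Prime := by rcases hl with rfl | rfl; exacts [H.hp, H.hr]
  have hsq : ¬ l * l ∣ Nat.card G := by
    rcases hl with rfl | rfl; exacts [H.not_sq_dvd_p, H.not_sq_dvd_r]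
  obtain ⟨M, hM⟩ := CfsgLib.ZStar.exists_isPModular hlp
  haveI := hM.2.1.isPrime
  refine apply_eq_zero_of_singleton hM (blockOf_eq_singleton hM χ fun h => hsq ?_) hg
  have := Nat.mul_div_cancel' (charDegree_dvd_card χ)
  rw [← this]
  exact mul_dvd_mul hd h

omit [IsSimpleGroup G] in
/-- A degree prime to `p` and `q` divides `r`. -/
theorem degree_dvd {l m : ℕ} {χ : IrrCharacter G}
    (hc : p * r * q ^ b = l * m) (h1 : Nat.Coprime (charDegree (χ : G → ℂ)) l) :
    charDegree (χ : G → ℂ) ∣ m := by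
  have h := charDegree_dvd_card χ
  rw [H.card, hc] at h
  exact h1.dvd_of_dvd_mul_left h

/-- For `y` of order `p` some character of degree `r` lies in the principal `p`-block and does not
vanish at `y`. -/
theorem exists_eta {M : Ideal AlgInt} [M.IsPrime] (hM : IsPModular p M) {y : G}
    (hy : orderOf y = p) :
    ∃ χ : IrrCharacter G, χ ∈ principalBlock M G ∧ charDegree (χ : G → ℂ) = r ∧
      (χ : G → ℂ) y ≠ 0 := by
  have := Fintype.ofFinite (IrrCharacter G)
  have h := sum_block_regular_singular hM (isPBlock_principalBlock (G := G)) (x := 1)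
    (by rw [orderOf_one]; exact H.hp.not_dvd_one) (y := y) (by rw [hy])
  rw [finsum_mem_eq_finite_toFinset_sum _ (Set.toFinite _),
    ← Finset.add_sum_erase _ _ ((Set.Finite.mem_toFinset _).2 trivChar_mem_principalBlock)] at h
  simp only [trivChar_apply, one_mul] at h
  by_contra! hno
  have key : ∀ χ ∈ (Set.toFinite (principalBlock M G)).toFinset.erase (trivChar G),
      IsIntegral ℤ ((χ : G → ℂ) 1 * (χ : G → ℂ) y / (q : ℂ)) := by
    intro χ hχ
    rw [Finset.mem_erase, Set.Finite.mem_toFinset] at hχ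
    by_cases hy0 : (χ : G → ℂ) y = 0
    · simp [hy0, isIntegral_zero]
    by_cases hqd : q ∣ charDegree (χ : G → ℂ)
    · obtain ⟨k, hk⟩ := hqd
      rw [apply_one_eq_charDegree, hk, Nat.cast_mul, mul_assoc,
        mul_div_cancel_left₀ _ (Nat.cast_ne_zero.2 H.hq.ne_zero)]
      exact (isIntegral_algebraMap (R := ℤ) (x := (k : ℤ))).mul
        (IsChar.isIntegral (IsIrr.isCharacter χ.2) _)
    · exfalso
      have hpd : ¬ p ∣ charDegree (χ : G → ℂ) := fun hd =>
        hy0 (H.apply_eq_zero_of_dvd (Or.inl rfl) hd (by rw [hy]))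
      have hdr : charDegree (χ : G → ℂ) ∣ r := H.degree_dvd (l := p * q ^ b) (m := r) (by ring)
        (Nat.Coprime.mul_right ((H.hp.coprime_iff_not_dvd.2 hpd).symm)
          (((H.hq.coprime_iff_not_dvd.2 hqd).symm).pow_right b))
      rcases (Nat.dvd_prime H.hr).1 hdr with e | e
      · exact H.degree_ne_one hχ.1 e
      · exact hy0 (hno χ hχ.2 e)
  have hone : IsIntegral ℤ (((1 : ℕ) : ℂ) / (q : ℂ)) := by
    have h2 := (IsIntegral.sum _ key).neg
    rw [← Finset.sum_div, ← neg_div, eq_neg_of_add_eq_zero_right h, neg_neg] at h2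
    rwa [Nat.cast_one]
  exact H.hq.not_dvd_one (CfsgLib.CharIntegral.dvd_of_isIntegral_div H.hq.ne_zero hone)

omit [IsSimpleGroup G] in
theorem zpowers_pow_eq {y : G} {l : ℕ} (hl : l.Prime) (hy : orderOf y = l) {i : ℕ} (hi : i < l)
    (hi0 : i ≠ 0) : orderOf (y ^ i) = l ∧ zpowers (y ^ i) = zpowers y := by
  have ho : orderOf (y ^ i) = l := by
    rw [Nat.Coprime.orderOf_pow]
    · exact hy
    · rw [hy]
      exact hl.coprime_iff_not_dvd.2 fun hd =>
        absurd (Nat.le_of_dvd (Nat.pos_of_ne_zero hi0) hd) (not_le.2 hi)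
  refine ⟨ho, eq_of_le_of_card_ge (zpowers_le.2 (pow_mem (mem_zpowers y) i)) ?_⟩
  rw [Nat.card_zpowers, Nat.card_zpowers, ho, hy]

omit [IsSimpleGroup G] in
/-- A subgroup containing `y` of order `l` with no nontrivial `l'`-elements is `⟨y⟩`. -/
theorem eq_zpowers {l : ℕ} (hl : l.Prime) (hsq : ¬ l * l ∣ Nat.card G) {y : G} (hy : orderOf y = l)
    {K : Subgroup G} (hyK : y ∈ K) (hno : ∀ v ∈ K, ¬ l ∣ orderOf v → v = 1) : K = zpowers y := by
  have hdvd : ∀ s : ℕ, s.Prime → s ∣ Nat.card K → s = l := by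
    intro s hs hd
    by_contra hne
    haveI := Fact.mk hs
    obtain ⟨v, hv⟩ := exists_prime_orderOf_dvd_card' s hd
    have hv' : orderOf (v : G) = s := by rw [Subgroup.orderOf_coe, hv]
    have := hno v v.2 (by rw [hv']; exact fun h => hne ((Nat.prime_dvd_prime_iff_eq hl hs).1 h).symm)
    rw [this, orderOf_one] at hv'
    exact hs.ne_one hv'.symm
  have hc := Nat.eq_prime_pow_of_unique_prime_dvd (p := l) (n := Nat.card K) Nat.card_pos.ne'
    (fun {d} hd hdd => hdvd d hd hdd)
  refine (eq_of_le_of_card_ge (zpowers_le.2 hyK) ?_).symm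
  rw [Nat.card_zpowers, hy, hc]
  rcases Nat.lt_or_ge (Nat.card K).primeFactorsList.length 2 with h | h
  · calc _ ≤ l ^ 1 := Nat.pow_le_pow_right hl.pos (by omega)
      _ = l := pow_one l
  · exfalso
    refine hsq (dvd_trans ?_ (card_subgroup_dvd_card K))
    rw [hc, ← pow_two]
    exact pow_dvd_pow l h

theorem centralizer_p {y : G} (hy : orderOf y = p) :
    centralizer ({y} : Set G) = zpowers y := by
  haveI := Fact.mk H.hp
  refine H.eq_zpowers H.hp H.not_sq_dvd_p hy (mem_centralizer_singleton_iff.2 rfl) fun v hv hvp => ?_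
  obtain ⟨M, hM⟩ := CfsgLib.ZStar.exists_isPModular H.hp
  haveI := hM.2.1.isPrime
  obtain ⟨χ, hB, hdeg, hy0⟩ := H.exists_eta hM hy
  have hχ : χ ≠ trivChar G := fun e => by
    rw [e, charDegree, trivChar_apply] at hdeg
    have := H.hr3
    simp at hdeg
    omega
  have hcard : Nat.card (zpowers y) = p := by rw [Nat.card_zpowers, hy]
  have hidx : ¬ p ∣ (zpowers y).index := fun h => H.not_sq_dvd_p (by
    rw [← card_mul_index (zpowers y), hcard]; exact mul_dvd_mul_left p h)
  obtain ⟨V, hV⟩ := CfsgLib.Blocks.PrimeSylow.exists_setup hcard hidx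
  have hcent : ∀ c : G, c ∈ centralizer (zpowers y : Set G) ↔ c ∈ centralizer ({y} : Set G) := by
    intro c
    rw [zpowers_eq_closure, centralizer_closure]
  have h1 : (χ : G → ℂ) v = (χ : G → ℂ) 1 := by
    refine apply_eq_of_deg_lt χ H.hp (y := y) (by rw [← hy, pow_orderOf_eq_one])
      (hdeg ▸ H.hrp) fun i hi hi0 => ?_
    obtain ⟨ho, hz⟩ := H.zpowers_pow_eq H.hp hy hi hi0
    have hCeq : centralizer ({y ^ i} : Set G) = centralizer ({y} : Set G) := by
      rw [← centralizer_closure, ← zpowers_eq_closure, hz, zpowers_eq_closure, centralizer_closure]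
    have hVle : V ≤ centralizer ({y ^ i} : Set G) := fun w hw => by
      rw [hCeq, ← hcent]; exact ((hV.mem_V w).1 hw).1
    haveI : (V.subgroupOf (centralizer ({y ^ i} : Set G))).Normal := ⟨fun w hw c => by
      rw [mem_subgroupOf] at hw ⊢
      obtain ⟨hwC, hwp⟩ := (hV.mem_V _).1 hw
      refine (hV.mem_V _).2 ⟨?_, ?_⟩
      · have hc : (c : G) ∈ centralizer (zpowers y : Set G) := by
          rw [hcent, ← hCeq]; exact c.2
        simp only [coe_mul, coe_inv]
        exact mul_mem (mul_mem hc hwC) (inv_mem hc)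
      · simp only [coe_mul, coe_inv]
        rwa [show (c : G) * w * (c : G)⁻¹ = MulAut.conj (c : G) w from rfl, MulEquiv.orderOf_eq]⟩
    refine apply_mul_eq_of_mem_principalBlock hM ⟨1, by rw [ho, pow_one]⟩ hB
      (N := V.subgroupOf (centralizer ({y ^ i} : Set G))) ?_
      (v := ⟨v, hCeq ▸ hv⟩) ?_
    · refine not_dvd_card_of_forall_ne fun w hw ho' => ?_
      have hw' := ((hV.mem_V _).1 (mem_subgroupOf.1 hw)).2
      rw [Subgroup.orderOf_coe, ho'] at hw'
      exact hw' dvd_rfl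
    · rw [mem_subgroupOf]
      exact (hV.mem_V v).2 ⟨(hcent v).2 hv, hvp⟩
  exact H.eq_one_of_norm_eq hχ (by rw [h1, apply_one_eq_charDegree, Complex.norm_natCast])

theorem centralizer_r {s : G} (hs : orderOf s = r) :
    centralizer ({s} : Set G) = zpowers s := by
  haveI := Fact.mk H.hp
  refine H.eq_zpowers H.hr H.not_sq_dvd_r hs (mem_centralizer_singleton_iff.2 rfl) fun v hv hvr => ?_
  obtain ⟨M, hM⟩ := CfsgLib.ZStar.exists_isPModular H.hp
  haveI := hM.2.1.isPrime
  obtain ⟨y, hy⟩ := exists_prime_orderOf_dvd_card' (G := G) p H.p_dvd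
  obtain ⟨χ, -, hdeg, -⟩ := H.exists_eta hM hy
  have hχ : χ ≠ trivChar G := fun e => by
    rw [e, charDegree, trivChar_apply] at hdeg
    have := H.hr3
    simp at hdeg
    omega
  have hc : Commute s v := (mem_centralizer_singleton_iff.1 hv).symm
  refine H.eq_one_of_norm_eq hχ (norm_apply_eq_of_vanish χ H.hr (by rw [← hs, pow_orderOf_eq_one])
    hc hdeg fun i hi hi0 => ?_)
  have ho : orderOf (s ^ i) = r := (H.zpowers_pow_eq H.hr hs hi hi0).1
  refine ⟨H.apply_eq_zero_of_dvd (Or.inr rfl) (by rw [hdeg]) (by rw [ho]),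
    H.apply_eq_zero_of_dvd (Or.inr rfl) (by rw [hdeg]) ?_⟩
  rw [(hc.pow_left i).orderOf_mul_eq_mul_orderOf_of_coprime
    (by rw [ho]; exact H.hr.coprime_iff_not_dvd.2 hvr), ho]
  exact dvd_mul_right r _

/-- The centralizer of a nontrivial `q`-element is a `q`-group. -/
theorem centralizer_q {v : G} (hv1 : v ≠ 1) (hv : ∃ k, orderOf v = q ^ k) :
    ∃ k, Nat.card (centralizer ({v} : Set G)) = q ^ k := by
  refine ⟨_, Nat.eq_prime_pow_of_unique_prime_dvd Nat.card_pos.ne' fun {d} hd hdd => ?_⟩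
  haveI := Fact.mk hd
  obtain ⟨w, hw⟩ := exists_prime_orderOf_dvd_card' d hdd
  have hw' : orderOf (w : G) = d := by rw [Subgroup.orderOf_coe, hw]
  have hvw : v ∈ centralizer ({(w : G)} : Set G) :=
    mem_centralizer_singleton_iff.2 (mem_centralizer_singleton_iff.1 w.2).symm
  obtain ⟨k, hk⟩ := hv
  have hk0 : k ≠ 0 := fun e => hv1 (orderOf_eq_one_iff.1 (by rw [hk, e, pow_zero]))
  have hfalse : centralizer ({(w : G)} : Set G) = zpowers (w : G) → d = q := fun e => by
    rw [e] at hvw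
    have := orderOf_dvd_natCard (⟨v, hvw⟩ : zpowers (w : G))
    rw [← orderOf_submonoid, Nat.card_zpowers, hw', hk] at this
    exact ((Nat.prime_dvd_prime_iff_eq H.hq hd).1 ((dvd_pow_self q hk0).trans this)).symm
  rcases H.prime_cases hd (hdd.trans (card_subgroup_dvd_card _)) with rfl | rfl | rfl
  · exact hfalse (H.centralizer_p hw')
  · exact hfalse (H.centralizer_r hw')
  · rfl

/-- A central element of a Sylow `q`-subgroup. -/
theorem exists_central : ∃ z : G, z ≠ 1 ∧ (∃ k, orderOf z = q ^ k) ∧ orderOf z ∣ q ∧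
    Nat.card (centralizer ({z} : Set G)) = q ^ b ∧
    (centralizer ({z} : Set G)).index = p * r := by
  haveI := Fact.mk H.hq
  obtain ⟨Q⟩ := (inferInstance : Nonempty (Sylow q G))
  have hQ : Nat.card (Q : Subgroup G) = q ^ b := CfsgLib.Perm.sylow_card_eq Q (m := p * r)
    (by rw [H.card]; ring) (fun h => by
      rcases H.hq.dvd_mul.1 h with h | h
      · exact H.hqp ((Nat.prime_dvd_prime_iff_eq H.hq H.hp).1 h)
      · exact H.hqr ((Nat.prime_dvd_prime_iff_eq H.hq H.hr).1 h))
  haveI : Nontrivial (Q : Subgroup G) := Finite.one_lt_card_iff_nontrivial.1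
    (by rw [hQ]; exact Nat.one_lt_pow (by have := H.hb; omega) H.hq.one_lt)
  have := Q.isPGroup'.center_nontrivial
  have hd : q ∣ Nat.card (Subgroup.center (Q : Subgroup G)) := by
    obtain ⟨n, hn⟩ := (Q.isPGroup'.to_subgroup (Subgroup.center _)).exists_card_eq
    rcases n with _ | n
    · have := Finite.one_lt_card (α := Subgroup.center (Q : Subgroup G))
      rw [hn, pow_zero] at this
      omega
    · rw [hn]; exact dvd_pow_self q (Nat.succ_ne_zero n)
  obtain ⟨z0, hz0⟩ := exists_prime_orderOf_dvd_card' q hd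
  have hzo : orderOf ((z0 : (Q : Subgroup G)) : G) = q := by
    rw [Subgroup.orderOf_coe, Subgroup.orderOf_coe, hz0]
  have hz1 : ((z0 : (Q : Subgroup G)) : G) ≠ 1 := fun e => by
    rw [e, orderOf_one] at hzo; exact H.hq.ne_one hzo.symm
  have hle : (Q : Subgroup G) ≤ centralizer ({((z0 : (Q : Subgroup G)) : G)} : Set G) := fun x hx =>
    mem_centralizer_singleton_iff.2 (congrArg Subtype.val (mem_center_iff.1 z0.2 ⟨x, hx⟩))
  obtain ⟨k, hk⟩ := H.centralizer_q hz1 ⟨1, by rw [pow_one, hzo]⟩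
  have hC : centralizer ({((z0 : (Q : Subgroup G)) : G)} : Set G) = (Q : Subgroup G) :=
    Q.is_maximal' (IsPGroup.of_card hk) hle
  refine ⟨_, hz1, ⟨1, by rw [pow_one, hzo]⟩, by rw [hzo], by rw [hC, hQ], ?_⟩
  have hmul := card_mul_index (centralizer ({((z0 : (Q : Subgroup G)) : G)} : Set G))
  rw [hC] at hmul ⊢
  rw [hQ, H.card, mul_comm (p * r)] at hmul
  exact Nat.eq_of_mul_eq_mul_left (pow_pos H.hq.pos b) hmul

/-- Burnside: a nontrivial character of degree prime to `p r` vanishes at `z`. -/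
theorem apply_central_eq_zero {z : G} (hz1 : z ≠ 1)
    (hidx : (centralizer ({z} : Set G)).index = p * r) {χ : IrrCharacter G} (hχ : χ ≠ trivChar G)
    (hp' : ¬ p ∣ charDegree (χ : G → ℂ)) (hr' : ¬ r ∣ charDegree (χ : G → ℂ)) :
    (χ : G → ℂ) z = 0 := by
  refine (CfsgLib.CharDegree.eq_zero_or_norm_eq χ z ?_).resolve_right fun h =>
    hz1 (H.eq_one_of_norm_eq hχ h)
  rw [hidx]
  exact Nat.Coprime.mul_right (H.hp.coprime_iff_not_dvd.2 hp').symm
    (H.hr.coprime_iff_not_dvd.2 hr').symm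

/-- A nontrivial character of degree prime to `p r` has `q`-defect zero. -/
theorem degree_eq_q_pow {χ : IrrCharacter G} (hχ : χ ≠ trivChar G)
    (hp' : ¬ p ∣ charDegree (χ : G → ℂ)) (hr' : ¬ r ∣ charDegree (χ : G → ℂ)) :
    charDegree (χ : G → ℂ) = q ^ b := by
  haveI := Fact.mk H.hq
  obtain ⟨M, hM⟩ := CfsgLib.ZStar.exists_isPModular H.hq
  haveI := hM.2.1.isPrime
  obtain ⟨z, hz1, -, -, -, hidx⟩ := H.exists_central
  have hnot : χ ∉ principalBlock M G := by
    intro hmem
    have hs : MemLocalIdeal M (centralChar (fun _ : G => (1 : ℂ)) z - centralChar (χ : G → ℂ) z) :=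
      hmem z
    rw [centralChar, centralChar, H.apply_central_eq_zero hz1 hidx hχ hp' hr', mul_zero, zero_div,
      sub_zero, mul_one, div_one, hidx] at hs
    obtain ⟨a, c, ha, hc, hac⟩ := hs
    have hc0 : (c : ℂ) ≠ 0 := coe_ne_zero_of_notMem hc
    have hmul : a = ((p * r : ℕ) : AlgInt) * c := by
      apply Subtype.ext
      rw [div_eq_iff hc0] at hac
      push_cast at hac ⊢
      exact hac
    have hprM : ((p * r : ℕ) : AlgInt) ∈ M :=
      (Ideal.IsPrime.mem_or_mem ‹_› (hmul ▸ ha)).resolve_right hc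
    have hcop : IsCoprime (((p * r : ℕ) : ℤ)) ((q : ℕ) : ℤ) := by
      exact Nat.isCoprime_iff_coprime.2 <| Nat.Coprime.mul_left ((Nat.coprime_primes H.hp H.hq).2 H.hqp.symm)
        ((Nat.coprime_primes H.hr H.hq).2 H.hqr.symm)
    obtain ⟨u, w, huw⟩ := hcop
    have h1 : ((u * ((p * r : ℕ) : ℤ) + w * ((q : ℕ) : ℤ) : ℤ) : AlgInt) ∈ M := by
      rw [Int.cast_add, Int.cast_mul, Int.cast_mul, Int.cast_natCast, Int.cast_natCast]
      exact M.add_mem (M.mul_mem_left _ hprM) (M.mul_mem_left _ hM.2.2)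
    rw [huw, Int.cast_one] at h1
    exact one_notMem h1
  have hvan : ∀ v : G, orderOf v = q → (χ : G → ℂ) v = 0 := by
    intro v hv
    have hv1 : v ≠ 1 := fun e => by rw [e, orderOf_one] at hv; exact H.hq.ne_one hv.symm
    obtain ⟨k, hk⟩ := H.centralizer_q hv1 ⟨1, by rw [pow_one, hv]⟩
    haveI := Fintype.ofFinite (centralizer ({v} : Set G))
    haveI := Fintype.ofFinite (IrrCharacter (centralizer ({v} : Set G)))
    have hB : principalBlock M (centralizer ({v} : Set G)) = Set.univ := by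
      rw [principalBlock_eq_of_complement (⊥ : Subgroup (centralizer ({v} : Set G))) hM
        (by rw [Subgroup.card_bot]; exact H.hq.not_dvd_one) (k := k) (by rw [Subgroup.index_bot, hk])]
      exact Set.eq_univ_of_forall fun ψ n hn => by rw [Subgroup.mem_bot.1 hn]
    have h := blockPart_principal_translate hM ⟨1, by rw [pow_one, hv]⟩ χ
      (y := (1 : centralizer ({v} : Set G))) (by rw [orderOf_one]; exact H.hq.not_dvd_one)
    rw [if_neg hnot, hB, blockPart_eq, finsum_mem_univ, finsum_eq_sum_of_fintype,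
      ← classFunction_apply_eq_sum (isClassFunction_translate χ), OneMemClass.coe_one,
      mul_one] at h
    exact h
  have hfac := Cfsg.Agent.S0928.result q χ hvan
  have hGfac : (Nat.card G).factorization q = b := by
    rw [H.card, Nat.factorization_mul (Nat.mul_ne_zero H.hp.ne_zero H.hr.ne_zero)
      (pow_ne_zero _ H.hq.ne_zero), Finsupp.add_apply, H.hq.factorization_pow, Finsupp.single_eq_same,
      Nat.factorization_eq_zero_of_not_dvd, zero_add]
    intro h
    rcases H.hq.dvd_mul.1 h with h | h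
    · exact H.hqp ((Nat.prime_dvd_prime_iff_eq H.hq H.hp).1 h)
    · exact H.hqr ((Nat.prime_dvd_prime_iff_eq H.hq H.hr).1 h)
  refine Nat.dvd_antisymm (H.degree_dvd (l := p * r) rfl
    (Nat.Coprime.mul_right (H.hp.coprime_iff_not_dvd.2 hp').symm
      (H.hr.coprime_iff_not_dvd.2 hr').symm)) ?_
  rw [← hGfac, ← hfac]
  exact Nat.ordProj_dvd _ _

/-- Some character of degree `q ^ b` does not vanish at a given element of order `p`. -/
theorem exists_steinberg {y : G} (hy : orderOf y = p) :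
    ∃ χ : IrrCharacter G, charDegree (χ : G → ℂ) = q ^ b ∧ (χ : G → ℂ) y ≠ 0 := by
  have := Fintype.ofFinite (IrrCharacter G)
  haveI := Fact.mk H.hr
  obtain ⟨s, hs⟩ := exists_prime_orderOf_dvd_card' (G := G) r H.r_dvd
  have hconj : ¬ IsConj y s := fun h => by
    obtain ⟨c, hc⟩ := isConj_iff.1 h
    have := MulEquiv.orderOf_eq (MulAut.conj c) y
    rw [MulAut.conj_apply, hc, hs, hy] at this
    have := H.hrp
    omega
  have h := column_orthogonality y s
  rw [if_neg hconj, ← Finset.add_sum_erase _ _ (Finset.mem_univ (trivChar G))] at h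
  simp only [trivChar_apply, map_one, mul_one] at h
  obtain ⟨χ, hχ, hne⟩ := Finset.exists_ne_zero_of_sum_ne_zero
    (s := Finset.univ.erase (trivChar G)) (f := fun χ : IrrCharacter G => (χ : G → ℂ) y * conj ((χ : G → ℂ) s))
    (fun e => by rw [e, add_zero] at h; exact one_ne_zero h)
  have hy0 : (χ : G → ℂ) y ≠ 0 := fun e => hne (by rw [e, zero_mul])
  refine ⟨χ, H.degree_eq_q_pow (Finset.ne_of_mem_erase hχ)
    (fun hd => hy0 (H.apply_eq_zero_of_dvd (Or.inl rfl) hd (by rw [hy])))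
    (fun hd => hne (by rw [H.apply_eq_zero_of_dvd (g := s) (Or.inr rfl) hd (by rw [hs]), map_zero, mul_zero])), hy0⟩

/-- The `q`-part is less than `p r`. -/
theorem q_pow_lt : q ^ b < p * r := by
  have := Fintype.ofFinite (IrrCharacter G)
  haveI := Fact.mk H.hp
  obtain ⟨y, hy⟩ := exists_prime_orderOf_dvd_card' (G := G) p H.p_dvd
  obtain ⟨χ, hdeg, -⟩ := H.exists_steinberg hy
  have hsum : ∑ ψ : IrrCharacter G, charDegree (ψ : G → ℂ) ^ 2 = Nat.card G := by
    rw [← Nat.cast_inj (R := ℂ), Nat.cast_sum, ← sum_sq_degree]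
    exact Finset.sum_congr rfl fun ψ _ => by rw [apply_one_eq_charDegree, Nat.cast_pow]
  have hqb : 1 < q ^ b := Nat.one_lt_pow (by have := H.hb; omega) H.hq.one_lt
  have hne : χ ≠ trivChar G := fun e => by
    rw [e, charDegree, trivChar_apply] at hdeg
    simp at hdeg
    omega
  have h2 : charDegree (χ : G → ℂ) ^ 2 + charDegree ((trivChar G : IrrCharacter G) : G → ℂ) ^ 2 ≤
      Nat.card G := by
    rw [← hsum, ← Finset.sum_pair hne (f := fun ψ : IrrCharacter G => charDegree (ψ : G → ℂ) ^ 2)]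
    exact Finset.sum_le_sum_of_subset (Finset.subset_univ _)
  have h3 := pow_pos (charDegree_pos (trivChar G)) 2
  rw [hdeg, H.card, sq] at h2
  have h4 : q ^ b * q ^ b < p * r * q ^ b := by omega
  exact Nat.lt_of_mul_lt_mul_right h4

end Hyp

end CfsgLib.Perm.ThreePrimeOrder
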