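import Cfsg.Agent.Lib.Perm.ThreePrimeOrder.Main
import Cfsg.Agent.Lib.Perm.ThreePrimeOrder.PrincipalValue

/-!
# The principal block of a Sylow subgroup of order `p` with normalizer of order `p (p - 1)`

`exists_signed`: the nontrivial principal characters with their signs, and the numerical
conditions at an involution inverting the Sylow subgroup, among them the class equation.
-/

set_option autoImplicit false

namespace CfsgLib.Perm.ThreePrimeOrder

open Cfsg CfsgLib.Char CfsgLib.Blocks Subgroup CfsgLib.Perm.FewSylow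
open scoped Classical ComplexConjugate

variable {G : Type*} [Group G] [Fintype G] {p : ℕ} [Fact p.Prime]

/-- The signs `σ` and the values `k` at an involution `u` inverting the element `y` of order `p`. -/
structure SignedBlock (p e : ℕ) (y u : G) (S : Finset (IrrCharacter G))
    (σ k : IrrCharacter G → ℤ) : Prop where
  card : S.card = e
  vanish : ∀ χ, χ ≠ trivChar G → χ ∉ S → (χ : G → ℂ) y = 0
  nontriv : ∀ χ ∈ S, charDegree (χ : G → ℂ) ≠ 1
  sign : ∀ χ ∈ S, σ χ = 1 ∨ σ χ = -1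
  fixdim : ∀ χ ∈ S, ∃ f : ℕ,
    (charDegree (χ : G → ℂ) : ℤ) + (e : ℤ) * σ χ = p * f ∧ |k χ| ≤ f
  four : ∀ χ ∈ S, (4 : ℤ) ∣ (charDegree (χ : G → ℂ) : ℤ) - k χ
  value : ∀ χ ∈ S, (χ : G → ℂ) u = k χ
  sum_one : ∑ χ ∈ S, σ χ * (charDegree (χ : G → ℂ) : ℤ) = -1
  sum_u : ∑ χ ∈ S, σ χ * k χ = -1
  column : 1 + ∑ χ ∈ S, k χ * k χ ≤ (Nat.card (centralizer ({u} : Set G)) : ℤ)
  classEq : (Nat.card G : ℂ) * (1 + ∑ χ ∈ S, ((σ χ * (k χ * k χ) : ℤ) : ℂ) /
    (charDegree (χ : G → ℂ) : ℂ)) = p * (Nat.card (centralizer ({u} : Set G)) : ℂ) ^ 2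

theorem exists_signed {P : Sylow p G} {a : G} {e n : ℕ} (F : Frame P a e 1 n) (he : Even e) :
    ∃ (y u : G) (S : Finset (IrrCharacter G)) (σ k : IrrCharacter G → ℤ),
      orderOf y = p ∧ y ∈ (P : Subgroup G) ∧ orderOf u = 2 ∧ u ∈ zpowers a ∧
      SignedBlock p e y u S σ k := by
  have := Fintype.ofFinite (IrrCharacter G)
  have hp : p.Prime := Fact.out
  have het : e + 1 = p := by have := F.et; omega
  have hodd : Odd p := by rw [← het]; exact he.add_one
  obtain ⟨y0, hy0⟩ := exists_prime_orderOf_dvd_card' (G := (P : Subgroup G)) p (by rw [F.card])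
  set y : G := (y0 : G) with hydef
  have hy : orderOf y = p := by rw [hydef, Subgroup.orderOf_coe, hy0]
  have hy1 : y ≠ 1 := fun e0 => by rw [e0, orderOf_one] at hy; exact hp.ne_one hy.symm
  have hyP : y ∈ (P : Subgroup G) := y0.2
  have hystar : y ∈ star (P : Subgroup G) := mem_star.2 ⟨hy1, hyP⟩
  have hPy : (P : Subgroup G) = zpowers y :=
    (eq_of_le_of_card_ge (zpowers_le.2 hyP) (by rw [F.card, Nat.card_zpowers, hy])).symm
  set u := a ^ (e / 2) with hudef
  obtain ⟨e', rfl⟩ := he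
  have he0 : 0 < e' := by have := F.two; omega
  have hu : orderOf u = 2 := by
    rw [hudef, orderOf_pow' _ (by omega), F.ord, show (e' + e') / 2 = e' by omega,
      Nat.gcd_eq_right ⟨2, by ring⟩]
    exact Nat.div_eq_of_eq_mul_left he0 (by ring)
  have hu2 : u * u = 1 := by rw [← pow_two, ← hu, pow_orderOf_eq_one]
  have hu1 : u ≠ 1 := fun e0 => by rw [e0, orderOf_one] at hu; omega
  have huA : u ∈ zpowers a := pow_mem (mem_zpowers a) _
  have hureg : ¬ p ∣ orderOf u := by
    rw [hu]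
    intro h
    have := Nat.le_of_dvd two_pos h
    omega
  have hinv : u * y * u⁻¹ = y⁻¹ := by
    have huy : u * y * u⁻¹ ∈ (P : Subgroup G) :=
      (mem_normalizer_iff.1 (F.zpowers_le_normalizer huA) _).1 hyP
    have hcomm : u * y * u⁻¹ * y = y * (u * y * u⁻¹) := by
      have h : u * y * u⁻¹ ∈ centralizer ({y} : Set G) := by rw [F.cent _ hyP hy1]; exact huy
      exact mem_centralizer_singleton_iff.1 h
    by_contra hne
    have hw1 : y * (u * y * u⁻¹) ≠ 1 := fun e0 => hne (eq_inv_of_mul_eq_one_right e0)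
    have huC : u ∈ (P : Subgroup G) := by
      refine (F.cent _ (mul_mem hyP huy) hw1).le (mem_centralizer_singleton_iff.2 ?_)
      calc u * (y * (u * y * u⁻¹)) = u * y * u⁻¹ * (u * u) * y * u⁻¹ := by group
        _ = u * y * u⁻¹ * y * u⁻¹ := by rw [hu2, mul_one]
        _ = y * (u * y * u⁻¹) * u⁻¹ := by rw [hcomm]
        _ = y * (u * y * u⁻¹) * u := by rw [inv_eq_of_mul_eq_one_right hu2]
    exact hu1 (F.eq_one_of_mem huC huA)
  obtain ⟨X, Y, εX, ε, hdisj, hTX, hT1, hXc, hYc, hX, hε, -, -, hrel, hYsum, hK0, -⟩ :=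
    exists_values F
  obtain ⟨θ, hYeq⟩ := Finset.card_eq_one.1 hYc
  have hθ : θ ∈ Y := by rw [hYeq]; exact Finset.mem_singleton_self θ
  let σ : IrrCharacter G → ℤ := fun χ => if χ ∈ X then εX χ else -ε
  have hσ : ∀ χ ∈ X ∪ Y, σ χ = 1 ∨ σ χ = -1 := by
    intro χ hχ
    by_cases h : χ ∈ X
    · simp only [σ, if_pos h]; exact (hX χ h).1
    · simp only [σ, if_neg h]; omega
  have hσθ : σ θ = -ε := if_neg (fun h => Finset.disjoint_left.1 hdisj h hθ)
  have hσT : σ (trivChar G) = 1 := (if_pos hTX).trans hT1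
  set S := (X ∪ Y).erase (trivChar G) with hSdef
  have hTU : trivChar G ∈ X ∪ Y := Finset.mem_union_left _ hTX
  have hrelσ : ∀ g : G, ¬ p ∣ orderOf g →
      ∑ χ ∈ S, (σ χ : ℂ) * (χ : G → ℂ) g = -1 := by
    intro g hg
    have h : ∑ χ ∈ X ∪ Y, (σ χ : ℂ) * (χ : G → ℂ) g = 0 := by
      rw [Finset.sum_union hdisj, hYeq, Finset.sum_singleton, hσθ, Int.cast_neg, neg_mul,
        hrel θ hθ g hg, ← sub_eq_add_neg, sub_eq_zero]
      exact Finset.sum_congr rfl fun χ hχ => by simp only [σ, if_pos hχ]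
    rw [← Finset.add_sum_erase _ _ hTU, hσT, trivChar_apply, ← hSdef] at h
    push_cast at h
    linear_combination h
  have hyval : ∀ χ ∈ X ∪ Y, (χ : G → ℂ) y = (σ χ : ℂ) := by
    intro χ hχ
    rcases Finset.mem_union.1 hχ with h | h
    · simp only [σ, if_pos h]; exact (hX χ h).2.2 y hystar
    · rw [hYeq, Finset.mem_singleton] at h
      subst h
      have hd := sum_degree_mul_apply_of_ne_one hy1
      rw [← Finset.sum_subset (Finset.subset_univ (X ∪ Y))
        (fun χ _ hχ => by rw [hK0 χ hχ y hystar, mul_zero]), Finset.sum_union hdisj, hYeq,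
        Finset.sum_singleton,
        Finset.sum_congr rfl (s₁ := X) (g := fun χ => (εX χ : ℂ) * (χ : G → ℂ) 1)
          (fun χ hχ => by rw [(hX χ hχ).2.2 _ hystar, mul_comm]),
        ← hrel χ hθ 1 (by rw [orderOf_one]; exact hp.not_dvd_one)] at hd
      rw [hσθ, Int.cast_neg]
      refine mul_left_cancel₀ (IsIrr.apply_one_ne_zero χ.2) ?_
      linear_combination hd
  have hstarcard : (star (P : Subgroup G)).card = e' + e' := by
    have := card_star (P : Subgroup G); rw [F.card] at this; omega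
  have hystarsum : ∀ χ ∈ X ∪ Y,
      ∑ x ∈ star (P : Subgroup G), (χ : G → ℂ) x = ((e' + e' : ℕ) : ℂ) * (σ χ : ℂ) := by
    intro χ hχ
    rcases Finset.mem_union.1 hχ with h | h
    · rw [Finset.sum_congr rfl (g := fun _ => (εX χ : ℂ)) (fun x hx => (hX χ h).2.2 x hx),
        Finset.sum_const, hstarcard, nsmul_eq_mul]
      simp only [σ, if_pos h]
    · rw [hYsum χ h]
      rw [hYeq, Finset.mem_singleton] at h
      subst h
      rw [hσθ]
      push_cast
      ring
  have hk : ∀ χ : IrrCharacter G, ∃ k : ℤ, (χ : G → ℂ) u = k := fun χ =>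
    CfsgLib.Perm.SelfCentDegree.exists_int_of_sq_eq_one χ hu2
  choose k hk using hk
  have hne1 : ∀ χ ∈ S, charDegree (χ : G → ℂ) ≠ 1 := fun χ hχ e0 =>
    (Finset.mem_erase.1 hχ).1 (eq_trivChar F.perf χ e0)
  refine ⟨y, u, S, σ, k, hy, hyP, hu, huA, ?_, ?_, hne1,
    fun χ hχ => hσ χ (Finset.mem_of_mem_erase hχ), ?_,
    fun χ _ => four_dvd_degree_sub F.perf χ hu2 (hk χ), fun χ _ => hk χ, ?_, ?_, ?_, ?_⟩
  · rw [hSdef, Finset.card_erase_of_mem hTU, Finset.card_union_of_disjoint hdisj, hXc, hYc]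
    omega
  · intro χ hne hχ
    exact hK0 χ (fun h => hχ (Finset.mem_erase.2 ⟨hne, h⟩)) y hystar
  · intro χ hχS
    obtain ⟨-, hχ⟩ := Finset.mem_erase.1 hχS
    letI : Fintype (P : Subgroup G) := @Subgroup.instFintypeSubtypeMemOfDecidablePred G _ _
      (fun _ => Classical.propDecidable _) _
    obtain ⟨f, hf⟩ := CharAverage.exists_sum_eq (P : Subgroup G) (IsIrr.isCharacter χ.2)
    rw [sum_subgroup, F.card, hystarsum χ hχ, apply_one_eq_charDegree] at hf
    refine ⟨f, by exact_mod_cast hf, ?_⟩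
    have h := CharAverage.norm_sum_le (P : Subgroup G) (IsIrr.isCharacter χ.2)
      (F.zpowers_le_normalizer huA)
    rw [F.sum_coset (fun g h => IsIrr.isClassFunction χ.2 g h) huA hu1, sum_subgroup,
      hystarsum χ hχ, apply_one_eq_charDegree, hf, hk, norm_mul, Complex.norm_natCast,
      Complex.norm_intCast, ← Nat.cast_mul, Complex.natCast_re, Nat.cast_mul] at h
    have h' : |(k χ : ℝ)| ≤ (f : ℝ) := le_of_mul_le_mul_left h (by exact_mod_cast hp.pos)
    exact_mod_cast h'
  · have h := hrelσ 1 (by rw [orderOf_one]; exact hp.not_dvd_one)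
    simp only [apply_one_eq_charDegree] at h
    exact_mod_cast h
  · have h := hrelσ u hureg
    simp only [hk] at h
    exact_mod_cast h
  · haveI : Decidable (IsConj u u) := Classical.dec _
    have h := column_orthogonality u u
    rw [if_pos (IsConj.refl u)] at h
    simp only [Complex.mul_conj, ← Complex.ofReal_sum] at h
    have h' : ∑ χ : IrrCharacter G, Complex.normSq ((χ : G → ℂ) u) =
        (Nat.card (centralizer ({u} : Set G)) : ℝ) := by exact_mod_cast h
    have hle : ∑ χ ∈ X ∪ Y, Complex.normSq ((χ : G → ℂ) u) ≤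
        ∑ χ : IrrCharacter G, Complex.normSq ((χ : G → ℂ) u) :=
      Finset.sum_le_sum_of_subset_of_nonneg (Finset.subset_univ _) fun _ _ _ =>
        Complex.normSq_nonneg _
    rw [← Finset.add_sum_erase _ _ hTU, ← hSdef, trivChar_apply, map_one,
      Finset.sum_congr rfl (s₁ := S) (g := fun χ => ((k χ * k χ : ℤ) : ℝ)) (fun χ _ => by
        rw [hk, ← Complex.ofReal_intCast, Complex.normSq_ofReal, Int.cast_mul]),
      h', ← Int.cast_sum] at hle
    exact_mod_cast hle
  · have hcnt := CfsgLib.CharDegree.sum_three (G := G) u u y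
    rw [(count_solutions hodd hy hu2 hu2 hinv ((F.cent _ hyP hy1).trans hPy)).2
      (IsConj.refl u)] at hcnt
    rw [← Finset.sum_subset (Finset.subset_univ (X ∪ Y))
      (fun χ _ hχ => by rw [hK0 χ hχ y hystar, mul_zero, zero_div]),
      ← Finset.add_sum_erase _ _ hTU, ← hSdef] at hcnt
    rw [Finset.sum_congr rfl (s₁ := S)
      (g := fun χ => ((σ χ * (k χ * k χ) : ℤ) : ℂ) / (charDegree (χ : G → ℂ) : ℂ)) (fun χ hχ => by
        rw [hk, hyval χ (Finset.mem_of_mem_erase hχ), apply_one_eq_charDegree]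
        push_cast
        ring)] at hcnt
    simp only [trivChar_apply, one_mul, div_one, Nat.cast_mul, Nat.cast_pow] at hcnt
    exact hcnt

end CfsgLib.Perm.ThreePrimeOrder
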